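import Cfsg.Agent.H264.FKS.Socle
import Cfsg.Agent.LieClassical.SUBasic
import Cfsg.Agent.LieClassical.OmegaReindex
import Cfsg.Agent.LieClassical.OrthFinite
import Cfsg.Agent.LieClassical.OmegaCenter
import Cfsg.Agent.H918.UBase

/-!
# Socles of the subgroups in the residual classes: unitary and orthogonal groups (helper264)
-/

set_option autoImplicit false

namespace Cfsg.Agent.H264.FKS

open Cfsg Cfsg.Geo Matrix QuadraticMap
open Cfsg.Agent.LieClassical.HermBasic Cfsg.Agent.LieClassical.SUBasic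

/-- what is known about a subgroup `M` with residual core `P` -/
def SocleOf {T : Type*} [Group T] (M : Subgroup T) {F : Type*} [Field F] {ι : Type} [Fintype ι] [DecidableEq ι]
    (P : Subgroup (GL ι F)) : Prop :=
  ∃ S : Subgroup M, S.Normal ∧ IsSimpleGroup S ∧ (¬ IsMulCommutative S) ∧ Subgroup.centralizer (S : Set M) = ⊥ ∧
      Nonempty (S ≃* P ⧸ (scalars ι F).subgroupOf P)

section SU

variable {F : Type*} [Field F] [Fintype F] {n q : ℕ}

theorem hker_su (hF : Fintype.card F = q ^ 2) (hn : 3 ≤ n) (A : SU n F q) :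
    QuotientGroup.mk' (Subgroup.center (SU n F q)) A = 1 ↔ H918.suHom n F q A ∈ scalars (Fin n) F := by
  rw [show QuotientGroup.mk' (Subgroup.center (SU n F q)) A = 1 ↔ A ∈ Subgroup.center (SU n F q) from
    QuotientGroup.eq_one_iff A]
  constructor
  · intro hA
    obtain ⟨c, hcn, hcq, rfl⟩ := (mem_center_SU_iff hF hn A).1 hA
    have hc0 : c ≠ 0 := by
      rintro rfl
      rw [zero_pow (by omega)] at hcn
      exact zero_ne_one hcn
    refine ⟨Units.mk0 c hc0, Units.ext ?_⟩
    have h1 : (((suScalar q c hcn hcq : SU n F q) : Matrix.SpecialLinearGroup (Fin n) F) : Matrix (Fin n) (Fin n) F) =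
        Matrix.diagonal fun _ => c := coe_suScalar ..
    exact h1.symm
  · intro h
    rw [Subgroup.mem_center_iff]
    intro B
    apply H918.suHom_injective
    rw [map_mul, map_mul]
    obtain ⟨c, hc⟩ := (mem_scalars_iff _).1 h
    apply Units.ext
    rw [Units.val_mul, Units.val_mul, hc, Matrix.mul_smul, Matrix.smul_mul, Matrix.one_mul, Matrix.mul_one]

/-- **Unitary groups.** -/
theorem exists_res_psu (hF : Fintype.card F = q ^ 2) (hn : 3 ≤ n) {M : Subgroup (PSU n F q)}
    {P : Subgroup (GL (Fin n) F)}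
    (h : IsResidualCore ((M.comap (QuotientGroup.mk' (Subgroup.center (SU n F q)))).map (H918.suHom n F q)) P) :
    SocleOf M P :=
  exists_socle (H918.suHom n F q) H918.suHom_injective (QuotientGroup.mk' (Subgroup.center (SU n F q)))
    (QuotientGroup.mk'_surjective _) (hker_su hF hn) h

end SU

section Omega

variable {F : Type*} [Field F] {ι : Type} [Fintype ι] [DecidableEq ι]

theorem exists_ne_zero (Q : QuadraticForm F (ι → F)) (hQ : (polarBilin Q).Nondegenerate)
    (hn : 3 ≤ Fintype.card ι) : ∃ v, Q v ≠ 0 := by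
  by_contra hcon
  push Not at hcon
  have h0 : ∀ v w, polarBilin Q v w = 0 := fun v w => by
    rw [polarBilin_apply_apply, QuadraticMap.polar, hcon, hcon, hcon]
    simp
  obtain ⟨i⟩ : Nonempty ι := Fintype.card_pos_iff.1 (by omega)
  have h1 := hQ.1 (Pi.single i (1 : F)) (fun w => h0 _ w)
  have h2 := congrFun h1 i
  rw [Pi.single_eq_same, Pi.zero_apply] at h2
  exact one_ne_zero h2

theorem hker_omega (Q : QuadraticForm F (ι → F)) (hQ : (polarBilin Q).Nondegenerate) (hn : 3 ≤ Fintype.card ι)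
    (hs : ∃ u : ι → F, u ≠ 0 ∧ Q u = 0) (g : Omega F (⇑Q)) :
    QuotientGroup.mk' (Subgroup.center (Omega F (⇑Q))) g = 1 ↔
      ((isometryGroup F (⇑Q)).subtype.comp (Omega F (⇑Q)).subtype) g ∈ scalars ι F := by
  rw [show QuotientGroup.mk' (Subgroup.center (Omega F (⇑Q))) g = 1 ↔ g ∈ Subgroup.center (Omega F (⇑Q)) from
    QuotientGroup.eq_one_iff g, LieClassical.OmegaCenter.mem_center_omega_iff Q hQ hn hs, mem_scalars_iff]
  constructor
  · rintro (h | h)
    · exact ⟨1, by rw [Units.val_one, one_smul]; exact h⟩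
    · refine ⟨-1, ?_⟩
      rw [Units.val_neg, Units.val_one, neg_smul, one_smul]
      exact h
  · rintro ⟨c, hc⟩
    obtain ⟨v, hv⟩ := exists_ne_zero Q hQ hn
    have hc' : LieClassical.OmegaCenter.omegaMat g = (c : F) • (1 : Matrix ι ι F) := hc
    have h1 : Q (LieClassical.OmegaCenter.omegaMat g *ᵥ v) = Q v :=
      (LieClassical.OrthFinite.mem_isometryGroup_iff ..).1 (g : isometryGroup F (⇑Q)).2 v
    rw [hc', Matrix.smul_mulVec, Matrix.one_mulVec, QuadraticMap.map_smul, smul_eq_mul] at h1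
    have h2 : (c : F) * c = 1 := mul_right_cancel₀ hv (by rw [one_mul]; exact h1)
    rcases mul_self_eq_one_iff.1 h2 with h3 | h3
    · left
      rw [hc', h3, one_smul]
    · right
      rw [hc', h3, neg_smul, one_smul]

/-- **Orthogonal groups.** -/
theorem exists_res_omega {Q : QuadraticForm F (ι → F)} (hQ : (polarBilin Q).Nondegenerate) (hn : 3 ≤ Fintype.card ι)
    (hs : ∃ u : ι → F, u ≠ 0 ∧ Q u = 0) {M : Subgroup (POmega F (⇑Q))} {P : Subgroup (GL ι F)}
    (h : IsResidualCore (((M.comap (QuotientGroup.mk' (Subgroup.center (Omega F (⇑Q))))).map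
      (Omega F (⇑Q)).subtype).map (isometryGroup F (⇑Q)).subtype) P) : SocleOf M P := by
  rw [Subgroup.map_map] at h
  exact exists_socle ((isometryGroup F (⇑Q)).subtype.comp (Omega F (⇑Q)).subtype)
    ((isometryGroup F (⇑Q)).subtype_injective.comp (Omega F (⇑Q)).subtype_injective)
    (QuotientGroup.mk' (Subgroup.center (Omega F (⇑Q)))) (QuotientGroup.mk'_surjective _)
    (hker_omega Q hQ hn hs) h

end Omega

section Std

open Cfsg.Agent.LieClassical.OmegaReindex

variable {F : Type*} [Field F] [Fintype F]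

theorem two_ne_zero_of_odd (h : Odd (Fintype.card F)) : (2 : F) ≠ 0 := by
  intro h2
  have hch : CharP F 2 := CharTwo.of_one_ne_zero_of_two_eq_zero one_ne_zero h2
  have h3 := FiniteField.even_card_of_char_two (F := F) (ringChar.eq F 2)
  have := Nat.odd_iff.1 h
  omega

/-- the preimage in `GL` of a subgroup of `PΩ(Q)` (the same as `H884.El.pre`) -/
def preO {ι : Type} [Fintype ι] [DecidableEq ι] (Q : (ι → F) → F) (M : Subgroup (POmega F Q)) : Subgroup (GL ι F) :=
  ((M.comap (QuotientGroup.mk' (Subgroup.center (Omega F Q)))).map (Omega F Q).subtype).map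
    (isometryGroup F Q).subtype

/-- **`PΩ_{2n+1}(q)`.** -/
theorem exists_res_odd {n : ℕ} (hn : 3 ≤ n) (hodd : Odd (Fintype.card F))
    {M : Subgroup (POmega F (quadFormOdd n F))} {P : Subgroup (GL (Unit ⊕ (Fin n ⊕ Fin n)) F)}
    (h : IsResidualCore (preO (quadFormOdd n F) M) P) : SocleOf M P := by
  revert M
  unfold preO
  rw [← coe_quadOdd]
  intro M h
  exact exists_res_omega (quadOdd_nondegenerate (two_ne_zero_of_odd hodd))
    (by simp only [Fintype.card_sum, Fintype.card_fin, Fintype.card_unit]; omega) (quadOdd_isotropic (by omega)) h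

omit [Fintype F] in
/-- **`PΩ⁺_{2n}(q)`.** -/
theorem exists_res_plus {n : ℕ} (hn : 4 ≤ n)
    {M : Subgroup (POmega F (quadFormPlus n F))} {P : Subgroup (GL (Fin n ⊕ Fin n) F)}
    (h : IsResidualCore (preO (quadFormPlus n F) M) P) : SocleOf M P := by
  revert M
  unfold preO
  rw [← coe_quadPlus]
  intro M h
  exact exists_res_omega quadPlus_nondegenerate
    (by simp only [Fintype.card_sum, Fintype.card_fin]; omega) (quadPlus_isotropic (by omega)) h

/-- **`PΩ⁻_{2n}(q)`.** -/
theorem exists_res_minus {n : ℕ} (hn : 4 ≤ n) (a b : F)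
    (hab : ∀ z₁ z₂ : F, z₁ ^ 2 + a * z₁ * z₂ + b * z₂ ^ 2 = 0 → z₁ = 0 ∧ z₂ = 0)
    {M : Subgroup (POmega F (quadFormMinus (n - 1) F a b))} {P : Subgroup (GL ((Fin (n - 1) ⊕ Fin (n - 1)) ⊕ Fin 2) F)}
    (h : IsResidualCore (preO (quadFormMinus (n - 1) F a b) M) P) : SocleOf M P := by
  revert M
  unfold preO
  rw [← coe_quadMinus]
  intro M h
  exact exists_res_omega (quadMinus_nondegenerate hab)
    (by simp only [Fintype.card_sum, Fintype.card_fin]; omega) (quadMinus_isotropic (by omega) a b) h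

end Std

end Cfsg.Agent.H264.FKS
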