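import Mathlib
import Cfsg.Agent.H200.LinFixC

/-!
# Two kinds of elements of order `r` in a linear group (helper264)

`exists_two`: `X` a finite group acting faithfully on a space `V` over `F`, `e` the order of `q = |F|` modulo the odd
prime `r`, `dim V < 3 e`; if a power of `r` divides `|X|` but not `q^(2e) - 1`, then `X` has two elements of order `r`
with fixed spaces of different dimension.
-/

set_option autoImplicit false

namespace Cfsg.Agent.H264.FKS.Two

open Module Cfsg.Agent.H200.LinFix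

/-- a free action -/
theorem card_dvd_of_free {G α : Type*} [Group G] [MulAction G α]
    (h : ∀ (g : G) (a : α), g • a = a → g = 1) : Nat.card G ∣ Nat.card α := by
  have h1 : ∀ b : α, MulAction.stabilizer G b = ⊥ := fun b => by
    rw [eq_bot_iff]
    intro g hg
    rw [Subgroup.mem_bot]
    exact h g b hg
  rw [Nat.card_congr (MulAction.selfEquivOrbitsQuotientProd h1), Nat.card_prod]
  exact Dvd.intro_left _ rfl

section

variable {F V : Type*} [Field F] [AddCommGroup V] [Module F V] [Finite V] {P : Type*} [Group P] [Finite P]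
  (ρ : P →* Module.End F V)

/-- the action on the nonzero vectors of an invariant subspace -/
@[instance_reducible]
def act (U : Submodule F V) (hU : ∀ (g : P), ∀ u ∈ U, ρ g u ∈ U) : MulAction P {u : V // u ∈ U ∧ u ≠ 0} where
  smul g u := ⟨ρ g u.1, hU g _ u.2.1, fun h => u.2.2 (by
    have h1 : ρ g⁻¹ (ρ g u.1) = 0 := by rw [h, map_zero]
    rwa [← Module.End.mul_apply, ← map_mul, inv_mul_cancel, map_one, Module.End.one_apply] at h1)⟩
  one_smul u := by
    apply Subtype.ext
    change ρ 1 u.1 = u.1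
    rw [map_one, Module.End.one_apply]
  mul_smul g h u := by
    apply Subtype.ext
    change ρ (g * h) u.1 = ρ g (ρ h u.1)
    rw [map_mul, Module.End.mul_apply]

theorem card_ne_zero (U : Submodule F V) : Nat.card {u : V // u ∈ U ∧ u ≠ 0} = Nat.card U - 1 := by
  classical
  have : Fintype U := Fintype.ofFinite _
  have e : {u : V // u ∈ U ∧ u ≠ 0} ≃ {u : U // u ≠ 0} :=
    { toFun := fun u => ⟨⟨u.1, u.2.1⟩, fun h => u.2.2 (congrArg Subtype.val h)⟩
      invFun := fun u => ⟨u.1.1, u.1.2, fun h => u.2 (Subtype.ext h)⟩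
      left_inv := fun _ => rfl
      right_inv := fun _ => rfl }
  rw [Nat.card_congr e, Nat.card_eq_fintype_card, Nat.card_eq_fintype_card, Fintype.card_subtype_compl,
    Fintype.card_subtype_eq]

/-- a nontrivial stabiliser -/
theorem exists_stab {r : ℕ} [hr : Fact r.Prime] (hP : IsPGroup r P) (U : Submodule F V)
    (hU : ∀ (g : P), ∀ u ∈ U, ρ g u ∈ U) (h : ¬ Nat.card P ∣ Nat.card U - 1) :
    ∃ w ∈ U, w ≠ 0 ∧ ∃ k : P, orderOf k = r ∧ ρ k w = w := by
  by_contra hcon
  push Not at hcon
  apply h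
  rw [← card_ne_zero]
  letI := act ρ U hU
  refine card_dvd_of_free fun g u hg => ?_
  by_contra hg1
  obtain ⟨n, hn⟩ := IsPGroup.iff_orderOf.1 hP g
  have hfix : ρ g u.1 = u.1 := congrArg Subtype.val hg
  have hn0 : n ≠ 0 := by
    rintro rfl
    rw [pow_zero, orderOf_eq_one_iff] at hn
    exact hg1 hn
  obtain ⟨m, rfl⟩ := Nat.exists_eq_succ_of_ne_zero hn0
  refine hcon u.1 u.2.1 u.2.2 (g ^ r ^ m) ?_ ?_
  · rw [orderOf_pow, hn, Nat.gcd_eq_right (pow_dvd_pow r (Nat.le_succ m)), pow_succ]
    exact Nat.mul_div_cancel_left _ (pow_pos hr.out.pos m)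
  · rw [map_pow]
    have : ∀ j : ℕ, (ρ g ^ j) u.1 = u.1 := fun j => by
      induction j with
      | zero => rfl
      | succ j ih => rw [pow_succ, Module.End.mul_apply, hfix, ih]
    exact this _

end

section

variable {F V : Type*} [Field F] [Finite F] [AddCommGroup V] [Module F V] [Finite V]

theorem card_eq_pow (U : Submodule F V) : Nat.card U = Nat.card F ^ finrank F U := by
  have : Fintype F := Fintype.ofFinite F
  rw [Module.natCard_eq_pow_finrank (K := F) (V := U)]

/-- **Two kinds of elements of order `r`.** -/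
theorem exists_two {X : Type*} [Group X] [Finite X] (ρ : X →* Module.End F V) (hρ : Function.Injective ρ) {r e b : ℕ}
    [hr : Fact r.Prime] (hd : Ordd r (Nat.card F) e) (hrF : (r : F) ≠ 0) (hdim : finrank F V < 3 * e)
    (hb : r ^ b ∣ Nat.card X) (hb' : ¬ r ^ b ∣ Nat.card F ^ (2 * e) - 1) :
    ∃ y₁ y₂ : X, orderOf y₁ = r ∧ orderOf y₂ = r ∧ finrank F (K (ρ y₁)) ≠ finrank F (K (ρ y₂)) := by
  obtain ⟨S⟩ : Nonempty (Sylow r X) := inferInstance
  let P : Subgroup X := S
  have hP : IsPGroup r P := S.2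
  have hbP : r ^ b ∣ Nat.card P := by
    have h1 := S.pow_dvd_card_of_pow_dvd_card hb
    exact h1
  have hP1 : ¬ Nat.card P ∣ Nat.card F ^ (2 * e) - 1 := fun h => hb' (hbP.trans h)
  have hP2 : ¬ Nat.card P ∣ Nat.card F ^ e - 1 := fun h => hP1 (h.trans (by
    rw [mul_comm, pow_mul]
    exact Nat.sub_one_dvd_pow_sub_one _ _))
  have hPnt : Nontrivial P := by
    by_contra hcon
    rw [not_nontrivial_iff_subsingleton] at hcon
    have : Nat.card P = 1 := Nat.card_eq_one_iff_unique.2 ⟨hcon, ⟨1⟩⟩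
    rw [this] at hP1
    exact hP1 (one_dvd _)
  -- a central element of order `r`
  obtain ⟨z, hz, hzc⟩ : ∃ z : P, orderOf z = r ∧ ∀ g : P, g * z = z * g := by
    have hc : Nontrivial (Subgroup.center P) := hP.center_nontrivial
    obtain ⟨z, hz⟩ := exists_prime_orderOf_dvd_card' r
      ((hP.to_subgroup (Subgroup.center P)).card_eq_or_dvd.resolve_left (by
        intro h
        rw [Nat.card_eq_one_iff_unique] at h
        exact not_subsingleton _ h.1))
    exact ⟨z, by rw [Subgroup.orderOf_coe]; exact hz, fun g => Subgroup.mem_center_iff.1 z.2 g⟩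
  set σ : P →* Module.End F V := ρ.comp P.subtype with hσ
  have hσi : Function.Injective σ := hρ.comp P.subtype_injective
  have hpow : ∀ {g : P}, orderOf g = r → σ g ^ r = 1 := fun {g} hg => by
    rw [← map_pow, ← hg, pow_orderOf_eq_one, map_one]
  have hne : ∀ {g : P}, orderOf g = r → σ g ≠ 1 := fun {g} hg h => by
    have : g = 1 := hσi (h.trans (map_one σ).symm)
    rw [this, orderOf_one] at hg
    exact hr.out.one_lt.ne hg
  by_contra hcon
  push Not at hcon
  -- all commutator spaces have the same dimension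
  have hR : ∀ {g : P}, orderOf g = r → finrank F (R (σ g)) = finrank F (R (σ z)) := fun {g} hg => by
    have h1 := hcon g z (by rw [Subgroup.orderOf_coe]; exact hg) (by rw [Subgroup.orderOf_coe]; exact hz)
    have h2 := finrank_add (F := F) (σ g)
    have h3 := finrank_add (F := F) (σ z)
    change finrank F (K (σ g)) = finrank F (K (σ z)) at h1
    omega
  have hcomm : ∀ g : P, σ g * σ z = σ z * σ g := fun g => by rw [← map_mul, hzc, map_mul]
  have hinv : ∀ (g : P), ∀ u ∈ R (σ z), σ g u ∈ R (σ z) := fun g u hu => R_inv (hcomm g) hu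
  obtain ⟨c, hc⟩ := dvd_finrank_R hd hrF (hpow hz)
  have hc0 : c ≠ 0 := by
    rintro rfl
    rw [mul_zero, Submodule.finrank_eq_zero] at hc
    exact R_ne_bot (hne hz) hc
  have hc3 : c < 3 := by
    by_contra h
    have h1 : finrank F (R (σ z)) ≤ finrank F V := Submodule.finrank_le _
    have h2 : e * 3 ≤ e * c := Nat.mul_le_mul_left _ (by omega)
    omega
  rcases (show c = 1 ∨ c = 2 by omega) with rfl | rfl
  · -- all of dimension `e`
    rw [mul_one] at hc
    obtain ⟨w, hw, hw0, k, hk, hkw⟩ := exists_stab σ hP (R (σ z)) hinv (by rw [card_eq_pow, hc]; exact hP2)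
    have hkinv : ∀ u ∈ R (σ k) ⊓ R (σ z), σ k u ∈ R (σ k) ⊓ R (σ z) := fun u hu =>
      ⟨R_inv rfl hu.1, hinv k u hu.2⟩
    obtain ⟨j, hj⟩ := dvd_finrank_le hd hrF (hpow hk) (W := R (σ k) ⊓ R (σ z)) inf_le_left hkinv
    have hle : finrank F (R (σ k) ⊓ R (σ z) : Submodule F V) ≤ e := hc ▸ Submodule.finrank_mono inf_le_right
    have hbot : R (σ k) ⊓ R (σ z) = ⊥ := by
      rcases Nat.eq_zero_or_pos j with h | h
      · rw [h, mul_zero, Submodule.finrank_eq_zero] at hj
        exact hj
      · exfalso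
        have h1 : e * 1 ≤ e * j := Nat.mul_le_mul_left _ h
        have h2 : R (σ k) ⊓ R (σ z) = R (σ z) :=
          Submodule.eq_of_le_of_finrank_le inf_le_right (by rw [hc]; omega)
        have h3 : w ∈ R (σ k) ⊓ R (σ z) := by rw [h2]; exact hw
        exact hw0 (eq_zero_of_mem (hpow hk) hrF hkw h3.1)
    -- `k` is trivial on `R z`
    have hkU : ∀ u ∈ R (σ z), σ k u = u := fun u hu => by
      obtain ⟨a, ha, b', hb', hab⟩ := decomp_mem (hpow hk) hrF (U := R (σ z)) (hinv k) hu
      rw [hbot, Submodule.mem_bot] at hb'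
      rw [hab, hb', add_zero]
      exact mem_K.1 ha.1
    -- `z k`
    have hzk1 : (z * k) ^ r = 1 := by
      have h1 : Commute z k := (hzc k).symm
      have hz' : z ^ r = 1 := by rw [← hz]; exact pow_orderOf_eq_one z
      have hk' : k ^ r = 1 := by rw [← hk]; exact pow_orderOf_eq_one k
      rw [h1.mul_pow, hz', hk', one_mul]
    have hzk : z * k ≠ 1 := by
      intro h
      have h1 : σ z w = w := by
        have h2 : (σ z * σ k) w = w := by rw [← map_mul, h, map_one]; rfl
        rwa [Module.End.mul_apply, hkw] at h2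
      exact hw0 (eq_zero_of_mem (hpow hz) hrF h1 hw)
    have hzko : orderOf (z * k) = r := orderOf_eq_prime hzk1 hzk
    have hfr : finrank F (R (σ (z * k))) = e := by rw [hR hzko, hc]
    have hsub : R (σ z) ≤ R (σ (z * k)) := by
      -- `σ z - 1` is bijective on `R (σ z)`
      let T : R (σ z) →ₗ[F] R (σ z) := (σ z - 1).restrict (p := R (σ z)) (q := R (σ z)) fun u hu =>
        (R (σ z)).sub_mem (hinv z u hu) hu
      have hTi : Function.Injective T := by
        rw [← LinearMap.ker_eq_bot, LinearMap.ker_eq_bot']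
        intro u hu
        have h1 : σ z u.1 - u.1 = 0 := congrArg Subtype.val hu
        exact Subtype.ext (eq_zero_of_mem (hpow hz) hrF (sub_eq_zero.1 h1) u.2)
      have hTs : Function.Surjective T := LinearMap.injective_iff_surjective.1 hTi
      intro u hu
      obtain ⟨u', hu'⟩ := hTs ⟨u, hu⟩
      have h1 : σ z u'.1 - u'.1 = u := congrArg Subtype.val hu'
      refine ⟨u'.1, ?_⟩
      change σ (z * k) u'.1 - u'.1 = u
      rw [map_mul, Module.End.mul_apply, hkU _ u'.2]
      exact h1
    have heq : R (σ z) = R (σ (z * k)) := Submodule.eq_of_le_of_finrank_le hsub (by rw [hfr, hc])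
    apply hne hk
    refine LinearMap.ext fun v => ?_
    rw [Module.End.one_apply]
    obtain ⟨a, ha, u, hu, rfl⟩ := decomp (hpow hz) hrF v
    rw [map_add, hkU u hu]
    congr 1
    -- `σ k a - a ∈ R z ∩ K z`
    have h1 : σ (z * k) a = σ k a := by
      rw [map_mul, Module.End.mul_apply, ← Module.End.mul_apply, ← hcomm, Module.End.mul_apply, mem_K.1 ha]
    have h2 : σ k a - a ∈ R (σ z) := by
      rw [heq, ← h1]
      exact sub_mem_R _ _
    have h3 : σ z (σ k a - a) = σ k a - a := by
      rw [map_sub, mem_K.1 ha, mem_K.1 (K_inv (hcomm k) ha)]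
    exact sub_eq_zero.1 (eq_zero_of_mem (hpow hz) hrF h3 h2)
  · -- all of dimension `2 e`
    obtain ⟨w, hw, hw0, k, hk, hkw⟩ := exists_stab σ hP (R (σ z)) hinv (by
      rw [card_eq_pow, hc, mul_comm e 2]; exact hP1)
    have hkinv : ∀ u ∈ R (σ k) ⊓ R (σ z), σ k u ∈ R (σ k) ⊓ R (σ z) := fun u hu =>
      ⟨R_inv rfl hu.1, hinv k u hu.2⟩
    obtain ⟨j, hj⟩ := dvd_finrank_le hd hrF (hpow hk) (W := R (σ k) ⊓ R (σ z)) inf_le_left hkinv
    have h1 := Submodule.finrank_sup_add_finrank_inf_eq (R (σ k)) (R (σ z))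
    have h2 : finrank F (R (σ k) ⊔ R (σ z) : Submodule F V) ≤ finrank F V := Submodule.finrank_le _
    rw [hR hk, hc] at h1
    have hj2 : 2 ≤ j := by
      by_contra h
      have h3 : e * j ≤ e * 1 := Nat.mul_le_mul_left _ (by omega)
      omega
    have h4 : e * 2 ≤ e * j := Nat.mul_le_mul_left _ hj2
    have h5 : R (σ k) ⊓ R (σ z) = R (σ z) := Submodule.eq_of_le_of_finrank_le inf_le_right (by rw [hc]; omega)
    have h6 : w ∈ R (σ k) ⊓ R (σ z) := by rw [h5]; exact hw
    exact hw0 (eq_zero_of_mem (hpow hk) hrF hkw h6.1)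

end

end Cfsg.Agent.H264.FKS.Two
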