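import Mathlib
import Cfsg.Agent.H264.FKS.Rows
import Cfsg.Agent.S2468
import Cfsg.Agent.S2469
import Cfsg.Agent.S2474

/-!
# `PSL_n(q²)` is not a subgroup of `PSp_{2n}(q)`, `Ω_{2n+1}(q)`, `n ≥ 3` (helper264)

`PSL_n(q²)` has elements of order `r s`, `r`, `s` primitive primes of `q^e - 1`, `q^{2e} - 1` (`e = n` or `n - 1`),
the other two groups do not.
-/

set_option autoImplicit false

namespace Cfsg.Agent.H264.FKS

open Cfsg Cfsg.Agent.OrdDiv Cfsg.Agent.H436 Cfsg.Agent.H915.GN Cfsg.Agent.H264.GN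

variable {p f n : ℕ}

theorem orderOf_of_prim {q e r : ℕ} (hr : Prim q e r) : orderOf ((q : ℕ) : ZMod r) = e := by
  have hq : 1 ≤ q := by
    rcases Nat.eq_zero_or_pos q with rfl | h5
    · exact absurd (dvd_zero r) hr.not_dvd
    · exact h5
  have key : ∀ k, ((q : ℕ) : ZMod r) ^ k = 1 ↔ e ∣ k := fun k => by
    rw [← hr.dvd_iff]
    have h1 : 1 ≤ q ^ k := Nat.one_le_pow _ _ hq
    rw [← Nat.modEq_iff_dvd' h1, ← ZMod.natCast_eq_natCast_iff]
    push_cast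
    exact eq_comm
  apply Nat.dvd_antisymm
  · rw [orderOf_dvd_iff_pow_eq_one, key]
  · rw [← key]
    exact pow_orderOf_eq_one _

/-- the order of `q²` -/
theorem prim_sq_odd {q e r : ℕ} (hr : Prim q e r) (he : e % 2 = 1) : Prim (q ^ 2) e r := by
  refine ⟨hr.prime, fun k => ?_, fun h => hr.not_dvd_pow _ h⟩
  rw [← pow_mul, hr.dvd_iff]
  exact ⟨fun h => dvd_of_two he h, fun h => h.mul_left _⟩

theorem prim_sq_even {q e r : ℕ} (hr : Prim q (2 * e) r) : Prim (q ^ 2) e r := by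
  refine ⟨hr.prime, fun k => ?_, fun h => hr.not_dvd_pow _ h⟩
  rw [← pow_mul, hr.dvd_iff]
  exact Nat.mul_dvd_mul_iff_left (by norm_num)

theorem ne_of_prim' {q e r : ℕ} (hr : Prim q e r) (he : 2 ≤ e) : r ≠ 2 := fun h => by
  have := lt_of_prim hr
  omega

theorem ne_char {e r : ℕ} (hr : Prim (p ^ f) e r) (hf : 1 ≤ f) : r ≠ p := fun h => by
  apply hr.not_dvd
  rw [h]
  exact dvd_pow_self p (by omega)

theorem ne_of_ne {q e e' r s : ℕ} (hr : Prim q e r) (hs : Prim q e' s) (hne : e ≠ e') : r ≠ s := fun h => by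
  subst h
  exact hne (Nat.dvd_antisymm ((hr.dvd_iff _).1 ((hs.dvd_iff _).2 dvd_rfl))
    ((hs.dvd_iff _).1 ((hr.dvd_iff _).2 dvd_rfl)))

/-- `PSL_n(q²)` has an element of order `r s`. -/
theorem psl_adj {F : Type} [Field F] [Fintype F] (hp : p.Prime) (hf : 1 ≤ f) (hF : Fintype.card F = p ^ (2 * f))
    {e r s : ℕ} (he : 3 ≤ e) (hen : e ≤ n) (hr : Prim (p ^ f) e r) (hs : Prim (p ^ f) (2 * e) s) :
    r * s ∈ Set.range (orderOf : Matrix.ProjectiveSpecialLinearGroup (Fin n) F → ℕ) := by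
  haveI := H364.OutLie.charP_of_card hp (show 1 ≤ 2 * f by omega) hF
  haveI : Fact p.Prime := ⟨hp⟩
  have hq2 : p ^ (2 * f) = (p ^ f) ^ 2 := by rw [mul_comm, pow_mul]
  have hlt : 4 ≤ p ^ (2 * f) := by
    rw [hq2]
    have : 2 ≤ p ^ f := hp.two_le.trans (Nat.le_self_pow (by omega) _)
    nlinarith
  obtain ⟨k, hk2, hke, hk⟩ : ∃ k, 2 ≤ k ∧ k ∣ e ∧ Prim ((p ^ f) ^ 2) k r := by
    rcases Nat.mod_two_eq_zero_or_one e with h | h
    · obtain ⟨j, rfl⟩ : ∃ j, e = 2 * j := ⟨e / 2, by omega⟩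
      exact ⟨j, by omega, Dvd.intro_left _ rfl, prim_sq_even hr⟩
    · exact ⟨e, by omega, dvd_rfl, prim_sq_odd hr h⟩
  have hl : Prim ((p ^ f) ^ 2) e s := prim_sq_even hs
  have hke' : k ≤ e := Nat.le_of_dvd (by omega) hke
  -- the order
  have hS : IsNamed (.psl n (p ^ (2 * f))) (Matrix.ProjectiveSpecialLinearGroup (Fin n) F) :=
    .mk' ⟨F, inferInstance, inferInstance, hF, ⟨MulEquiv.refl _⟩⟩ ⟨by omega, fun _ => hlt, hF ▸
      Fintype.isPrimePow_card_of_field⟩ (by rw [← hF]; exact psl_eq (by omega))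
  by_contra hcon
  have := (Cfsg.Agent.S2468.result p n (by omega) (fun h => by omega) r s hr.prime hs.prime
    (ne_of_prim' hr (by omega)) (ne_of_prim' hs (by omega)) (ne_char hr hf) (ne_char hs hf)
    (ne_of_ne hr hs (by omega)) (dvd_psl hS hk2 (by omega) (hq2 ▸ hk)) (dvd_psl hS (by omega) hen (hq2 ▸ hl))
    k e (by rw [hF, hq2]; exact (orderOf_of_prim hk).symm) (by rw [hF, hq2]; exact (orderOf_of_prim hl).symm)
    hk2 hke').1 hcon
  exact this.2 hke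

/-- `PSp_{2n}(q)` has no element of order `r s`. -/
theorem psp_not_adj {F : Type} [Field F] [Fintype F] (hp : p.Prime) (hf : 1 ≤ f) (hF : Fintype.card F = p ^ f)
    {e r s : ℕ} (hn : 3 ≤ n) (he : 3 ≤ e) (hen : e ≤ n) (hodd : e % 2 = 1 → n < 2 * e)
    (heven : e % 2 = 0 → 2 * n < 3 * e) (hr : Prim (p ^ f) e r) (hs : Prim (p ^ f) (2 * e) s) :
    r * s ∉ Set.range (orderOf : PSp n F → ℕ) := by
  haveI := H364.OutLie.charP_of_card hp hf hF
  haveI : Fact p.Prime := ⟨hp⟩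
  have hT : IsNamed (.psp n (p ^ f)) (PSp n F) :=
    .mk' ⟨F, inferInstance, inferInstance, hF, ⟨MulEquiv.refl _⟩⟩ ⟨by omega, fun _ => by omega, hF ▸
      Fintype.isPrimePow_card_of_field⟩ (by rw [← hF]; exact psp_eq (by omega))
  refine (Cfsg.Agent.S2469.result p n (by omega) (fun h => by omega) r s hr.prime hs.prime
    (ne_of_prim' hr (by omega)) (ne_of_prim' hs (by omega)) (ne_char hr hf) (ne_char hs hf)
    (ne_of_ne hr hs (by omega)) (dvd_psp hT he (Dvd.intro_left _ rfl) (by omega) hen hr)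
    (dvd_psp hT (by omega) dvd_rfl (by omega) hen hs) e (2 * e) (if e % 2 = 1 then e else e / 2) e
    (by rw [hF]; exact (orderOf_of_prim hr).symm) (by rw [hF]; exact (orderOf_of_prim hs).symm) ?_ ?_ ?_).2 ⟨?_, ?_⟩
  · split_ifs with h
    · exact Or.inl ⟨Nat.odd_iff.2 h, rfl⟩
    · exact Or.inr ⟨Nat.even_iff.2 (by omega), by omega⟩
  · exact Or.inr ⟨even_two_mul e, rfl⟩
  · split_ifs <;> omega
  · split_ifs with h
    · have := hodd h
      omega
    · have := heven (by omega)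
      omega
  · rintro ⟨t, ht, h⟩
    have : t = 2 := Nat.eq_of_mul_eq_mul_left (show 0 < e by omega) (by rw [← h]; ring)
    subst this
    exact absurd ht (by decide)

/-- the two primes -/
theorem exists_two_primes (hp : p.Prime) (hf : 1 ≤ f) (hn : 3 ≤ n) (hex1 : ¬ (p = 2 ∧ f * (2 * n) = 6)) :
    ∃ e r s, 3 ≤ e ∧ e ≤ n ∧ (e % 2 = 1 → n < 2 * e) ∧ (e % 2 = 0 → 2 * n < 3 * e) ∧ Prim (p ^ f) e r ∧
      Prim (p ^ f) (2 * e) s := by
  have hfn : 1 * n ≤ f * n := Nat.mul_le_mul_right _ hf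
  have h2n : f * (2 * n) = 2 * (f * n) := by ring
  by_cases h6 : p = 2 ∧ f * n = 6
  · obtain ⟨rfl, h6⟩ := h6
    have hf3 : f ≤ 2 := by
      by_contra h
      have : 3 * n ≤ f * n := Nat.mul_le_mul_right _ (by omega)
      omega
    interval_cases f
    · -- `n = 6`, `q = 2`
      obtain rfl : n = 6 := by omega
      obtain ⟨r, hr⟩ := exists_prim (q := 2) (e := 5) le_rfl (by norm_num) (by norm_num)
      obtain ⟨s, hs⟩ := exists_prim (q := 2) (e := 10) le_rfl (by norm_num) (by norm_num)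
      exact ⟨5, r, s, by norm_num, by norm_num, by norm_num, by norm_num, by rwa [pow_one], by rwa [pow_one]⟩
    · obtain rfl : n = 3 := by omega
      obtain ⟨s, hs⟩ := exists_prim (q := 2 ^ 2) (e := 2 * 3) (by norm_num) (by norm_num) (by norm_num)
      exact ⟨3, 7, s, le_rfl, le_rfl, by norm_num, by norm_num, by norm_num; exact prim_four_three, hs⟩
  · obtain ⟨r, hr⟩ := exists_prim (q := p) (e := f * n) hp.two_le (by omega) h6
    obtain ⟨s, hs⟩ := exists_prim (q := p) (e := f * (2 * n)) hp.two_le (by omega) hex1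
    exact ⟨n, r, s, hn, le_rfl, fun _ => by omega, fun _ => by omega, prim_pow hf hr, prim_pow hf hs⟩

theorem mem_range_of_le {T : Type*} [Group T] {R : Subgroup T} {S : Subgroup R} {L : Type*} [Group L] (e : S ≃* L)
    {m : ℕ} (h : m ∈ Set.range (orderOf : L → ℕ)) : ∃ x : T, x ∈ R ∧ orderOf x = m := by
  obtain ⟨x, rfl⟩ := h
  refine ⟨((e.symm x : S) : R), ((e.symm x : S) : R).2, ?_⟩
  rw [Subgroup.orderOf_coe, Subgroup.orderOf_coe]
  exact orderOf_injective e.symm.toMonoidHom e.symm.injective x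

/-- `PSL_n(q²)` is not a subgroup of `PSp_{2n}(q)`. -/
theorem not_psl_psp {T : Type*} [Group T] (hp : p.Prime) (hf : 1 ≤ f) (hn : 3 ≤ n)
    (hex1 : ¬ (p = 2 ∧ f * (2 * n) = 6)) (hT : IsNamed (.psp n (p ^ f)) T) {R : Subgroup T} {S : Subgroup R}
    (hS : IsNamed (.psl n (p ^ (2 * f))) S) : False := by
  obtain ⟨F, _, _, hF, ⟨e⟩⟩ := hT.real
  obtain ⟨F', _, _, hF', ⟨e'⟩⟩ := hS.real
  obtain ⟨d, r, s, h1, h2, h3, h4, hr, hs⟩ := exists_two_primes hp hf hn hex1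
  obtain ⟨x, -, hx⟩ := mem_range_of_le e' (psl_adj hp hf hF' h1 h2 hr hs)
  refine psp_not_adj hp hf hF hn h1 h2 h3 h4 hr hs ⟨e x, ?_⟩
  rw [← hx]
  exact orderOf_injective e.toMonoidHom e.injective x

/-- `PSL_n(q²)` is not a subgroup of `Ω_{2n+1}(q)`. -/
theorem not_psl_oodd {T : Type*} [Group T] (hp : p.Prime) (hf : 1 ≤ f) (hn : 3 ≤ n)
    (hT : IsNamed (.oodd n (p ^ f)) T) {R : Subgroup T} {S : Subgroup R}
    (hS : IsNamed (.psl n (p ^ (2 * f))) S) : False := by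
  obtain ⟨F, _, _, hF, ⟨e⟩⟩ := hT.real
  obtain ⟨F', _, _, hF', ⟨e'⟩⟩ := hS.real
  have hodd : Odd (Fintype.card F) := hF ▸ hT.cond.2.1
  have hex1 : ¬ (p = 2 ∧ f * (2 * n) = 6) := by
    rintro ⟨rfl, -⟩
    rw [hF, Nat.odd_pow_iff (by omega)] at hodd
    exact absurd hodd (by decide)
  obtain ⟨d, r, s, h1, h2, h3, h4, hr, hs⟩ := exists_two_primes hp hf hn hex1
  obtain ⟨x, -, hx⟩ := mem_range_of_le e' (psl_adj hp hf hF' h1 h2 hr hs)
  refine psp_not_adj hp hf hF hn h1 h2 h3 h4 hr hs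
    ((Cfsg.Agent.S2474.result hodd n hn r s hr.prime hs.prime (ne_of_ne hr hs (by omega))).1 ⟨e x, ?_⟩)
  rw [← hx]
  exact orderOf_injective e.toMonoidHom e.injective x

end Cfsg.Agent.H264.FKS
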