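import Mathlib
import Cfsg.Agent.H264.FKS.TwoFam

/-!
# The remaining pairs: `n` even, `q` has order `n` modulo a prime `r > f n` (helper264)

* `derT_psp'`  : `T = PSp_{2n}(q)`, `n ≥ 3`;
* `derT_oodd'` : `T = Ω_{2n+1}(q)`, `n ≥ 3`;
* `derT_oplus'`: `T = PΩ^+_{2n}(q)`, `n ≥ 4`;

every proper almost simple subgroup `R` with socle of Lie type in the characteristic of `T` misses a class of elements
of prime order.
-/

set_option autoImplicit false

namespace Cfsg.Agent.H264.FKS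

open Cfsg Cfsg.Agent.OrdDiv Cfsg.Agent.H436 Cfsg.Agent.H915.GN Cfsg.Agent.H264.GN Cfsg.Agent.H902
  Cfsg.Agent.H902.Names

universe u

variable {p f n r : ℕ} {g : Grp}

/-- the four names of subgroups -/
def Four (p f n : ℕ) (g : Grp) : Prop :=
  g = .ominus n (p ^ f) ∨ g = .psl (n - 1) (p ^ (2 * f)) ∨ g = .psp (n - 1) (p ^ f) ∨ g = .oodd (n - 1) (p ^ f)

theorem cyc_of_name {S : Type u} [Group S] (h : Four p f n g) (hS : IsNamed g S) (hr : Prim (p ^ f) n r)
    (hn : 3 ≤ n) (he : n % 2 = 0) : Cyc r S := by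
  rcases h with rfl | rfl | rfl | rfl
  · obtain ⟨F, _, _, a, b, hF, hab, ⟨Φ⟩⟩ := hS.real
    rw [← hF, ← Nat.card_eq_fintype_card] at hr
    exact (cyc_ominus hab hr hn).congr Φ
  · obtain ⟨F, _, _, hF, ⟨Φ⟩⟩ := hS.real
    have h1 : Prim (Nat.card F) (n / 2) r := by
      rw [Nat.card_eq_fintype_card, hF, mul_comm, pow_mul]
      exact prim_sq_even (by rwa [show 2 * (n / 2) = n by omega])
    exact (cyc_psl h1 (by omega) (by omega)).congr Φ
  · obtain ⟨F, _, _, hF, ⟨Φ⟩⟩ := hS.real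
    rw [← hF, ← Nat.card_eq_fintype_card] at hr
    exact (cyc_psp hr (by omega) (by omega)).congr Φ
  · obtain ⟨F, _, _, hF, ⟨Φ⟩⟩ := hS.real
    rw [← hF, ← Nat.card_eq_fintype_card] at hr
    exact (cyc_pomega _ hr (by omega) (by simp; omega)).congr Φ

theorem four_out {S : Type u} [Group S] [Finite S] [IsSimpleGroup S] (hna : ¬ IsMulCommutative S) (h : Four p f n g)
    (hS : IsNamed g S) (hp : p.Prime) (hf : 1 ≤ f) (hr : r.Prime) (h5 : 5 ≤ r) (hn : n ≤ r) (hf2 : 2 * f < r) :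
    ¬ r ∣ Nat.card (Cfsg.Out S) := by
  have key : ∀ {X : Art.Sh} {f₁ : ℕ}, IsLie g X p f₁ → Art.Real X p f₁ (Nat.card S) → f₁ ≤ 2 * f → 1 ≤ f₁ →
      (¬ r ∣ Art.dd X (p ^ f₁)) → ¬ r ∣ Nat.card (Cfsg.Out S) := by
    intro X f₁ h1 h2 h3 h3' h4 hd
    obtain ⟨k, h4', h6, -⟩ := H364.OutLie.card_out (not_comm hna) h1 hS.real h2
    rw [h4'] at hd
    rcases hr.dvd_mul.1 hd with h7 | h7
    · rcases hr.dvd_mul.1 (h7.trans h6) with h8 | h8
      · have h9 : r ∣ 2 ^ 3 * 3 := h8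
        rcases hr.dvd_mul.1 h9 with h10 | h10
        · have := Nat.le_of_dvd (by norm_num) (hr.dvd_of_dvd_pow h10)
          omega
        · have := Nat.le_of_dvd (by norm_num) h10
          omega
      · exact h4 h8
    · have := Nat.le_of_dvd (by omega) h7
      omega
  have h4 : ∀ {a b : ℕ}, a ≤ 4 → 0 < a → ¬ r ∣ Nat.gcd a b := fun h1 h2 h3 => by
    have := Nat.le_of_dvd h2 (h3.trans (Nat.gcd_dvd_left _ _))
    omega
  rcases h with rfl | rfl | rfl | rfl
  · have hc := hS.cond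
    obtain ⟨F, _, _, a, b, hF, hab, ⟨e⟩⟩ := hS.real
    exact key (.ominus n p f) (by rw [Nat.card_congr e.toEquiv]; exact ominus_real hp hf hF hc.1 hab) (by omega) hf
      (h4 (a := 4) (by norm_num) (by norm_num))
  · have hc := hS.cond
    obtain ⟨F, _, _, hF, ⟨e⟩⟩ := hS.real
    refine key (.psl (n - 1) p (2 * f)) (by
      rw [Nat.card_congr e.toEquiv]; exact psl_real hp (by omega) hF hc.1 hc.2.1) le_rfl (by omega) fun h => ?_
    have h1 : r ∣ Nat.gcd (n - 1) (p ^ (2 * f) - 1) := h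
    have h2 := Nat.le_of_dvd (by have := hc.1; omega) (h1.trans (Nat.gcd_dvd_left _ _))
    have := hc.1
    omega
  · have hc := hS.cond
    obtain ⟨F, _, _, hF, ⟨e⟩⟩ := hS.real
    exact key (.psp (n - 1) p f) (by rw [Nat.card_congr e.toEquiv]; exact psp_real hp hf hF hc.1 hc.2.1) (by omega) hf
      (h4 (a := 2) (by norm_num) (by norm_num))
  · have hc := hS.cond
    obtain ⟨F, _, _, hF, ⟨e⟩⟩ := hS.real
    exact key (.oodd (n - 1) p f hc.1 hc.2.1) (by
      rw [Nat.card_congr e.toEquiv]; exact oodd_real hp hf hF hc.1 hc.2.1) (by omega) hf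
      (h4 (a := 2) (by norm_num) (by norm_num))

/-- the index of the socle divides `|Out S|` -/
theorem index_dvd {R : Type u} [Group R] [Finite R] (S : Subgroup R) [S.Normal] [IsSimpleGroup S]
    (hna : ¬ IsMulCommutative S) (hC : Subgroup.centralizer (S : Set R) = ⊥) : S.index ∣ Nat.card (Cfsg.Out S) := by
  have h1 := dvd_aut S hC
  rw [← H934.OutB.card_out_mul S hna, ← S.card_mul_index, mul_comm] at h1
  exact Nat.dvd_of_mul_dvd_mul_right Nat.card_pos h1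

theorem exists_big (hp : p.Prime) (hf : 1 ≤ f) (hn : 3 ≤ n) (h6 : ¬ (p = 2 ∧ f * n = 6)) :
    ∃ r, Prim (p ^ f) n r ∧ f * n < r := by
  have h1 : 1 * n ≤ f * n := Nat.mul_le_mul_right _ hf
  obtain ⟨r, hr⟩ := exists_prim (q := p) (e := f * n) hp.two_le (by omega) h6
  exact ⟨r, prim_pow hf hr, lt_of_prim hr⟩

/-- the subgroups with these socles have cyclic Sylow `r`-subgroups -/
theorem cyc_four {R : Type u} [Group R] [Finite R] (S : Subgroup R) [S.Normal] [IsSimpleGroup S]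
    (hna : ¬ IsMulCommutative S) (hC : Subgroup.centralizer (S : Set R) = ⊥) (h : Four p f n g)
    (hS : IsNamed g S) (hp : p.Prime) (hf : 1 ≤ f) (hr : Prim (p ^ f) n r) (hlt : f * n < r) (hn : 3 ≤ n)
    (he : n % 2 = 0) : Cyc r R := by
  haveI : Fact r.Prime := ⟨hr.prime⟩
  have h1 : 1 * n ≤ f * n := Nat.mul_le_mul_right _ hf
  have h2 : f * 3 ≤ f * n := Nat.mul_le_mul_left _ hn
  exact Cyc.of_normal S (cyc_of_name h hS hr hn he) fun hd =>
    four_out hna h hS hp hf hr.prime (five_le_of_prim hn hr) (by omega) (by omega) (hd.trans (index_dvd S hna hC))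

variable {T : Type u} [Group T] [Finite T] {R : Subgroup T}

/-- **`T = PSp_{2n}(q)`, `n ≥ 3`.** -/
theorem derT_psp' (hT : IsNamed (.psp n (p ^ f)) T) (hp : p.Prime) (hf : 1 ≤ f) (hn : 3 ≤ n)
    (hex1 : ¬ (p = 2 ∧ f * (2 * n) = 6)) (hex2 : ¬ (p = 2 ∧ f * (2 * (n - 1)) = 6)) (h6 : ¬ (n = 6 ∧ p ^ f = 2))
    (hR : R ≠ ⊤)
    (S : Subgroup R) [S.Normal] [IsSimpleGroup S] (hna : ¬ IsMulCommutative S)
    (hC : Subgroup.centralizer (S : Set R) = ⊥) (hS : IsNamed g S) (hch : HasChar p g) : H278.El.DerT T R := by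
  by_contra hcon
  obtain ⟨he, hg⟩ := full_psp hT hp hf hn hex1 hex2 hR (full_of_not_derT hcon) S hna hC hS hch
  obtain ⟨r, hr, hlt⟩ := exists_big hp hf hn (by
    rintro ⟨rfl, h⟩
    have hn' : 4 ≤ n := by omega
    have : f * 4 ≤ f * n := Nat.mul_le_mul_left _ hn'
    obtain rfl : f = 1 := by omega
    exact h6 ⟨by omega, rfl⟩)
  exact hcon (derT_named_psp hT hr (by omega) he R (cyc_four S hna hC (Or.inl hg) hS hp hf hr hlt hn he))

/-- **`T = Ω_{2n+1}(q)`, `n ≥ 3`.** -/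
theorem derT_oodd' (hT : IsNamed (.oodd n (p ^ f)) T) (hp : p.Prime) (hf : 1 ≤ f) (hn : 3 ≤ n) (hR : R ≠ ⊤)
    (S : Subgroup R) [S.Normal] [IsSimpleGroup S] (hna : ¬ IsMulCommutative S)
    (hC : Subgroup.centralizer (S : Set R) = ⊥) (hS : IsNamed g S) (hch : HasChar p g) : H278.El.DerT T R := by
  by_contra hcon
  obtain ⟨he, hg⟩ := full_oodd hT hp hf hn hR (full_of_not_derT hcon) S hna hC hS hch
  obtain ⟨r, hr, hlt⟩ := exists_big hp hf hn (by
    rintro ⟨rfl, h⟩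
    have := hT.cond.2.1
    rw [Nat.odd_pow_iff (by omega)] at this
    exact absurd this (by decide))
  exact hcon (derT_named_oodd hT hr (by omega) he R (cyc_four S hna hC (Or.inl hg) hS hp hf hr hlt hn he))

/-- **`T = PΩ^+_{2n}(q)`, `n ≥ 4`.** -/
theorem derT_oplus' (hT : IsNamed (.oplus n (p ^ f)) T) (hp : p.Prime) (hf : 1 ≤ f) (hn : 4 ≤ n)
    (hex1 : ¬ (p = 2 ∧ f * (2 * (n - 1)) = 6)) (hex2 : ¬ (p = 2 ∧ f * (2 * (n - 2)) = 6)) (h6 : ¬ (n = 6 ∧ p ^ f = 2))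
    (hR : R ≠ ⊤)
    (S : Subgroup R) [S.Normal] [IsSimpleGroup S] (hna : ¬ IsMulCommutative S)
    (hC : Subgroup.centralizer (S : Set R) = ⊥) (hS : IsNamed g S) (hch : HasChar p g) : H278.El.DerT T R := by
  by_contra hcon
  obtain ⟨he, hg⟩ := full_oplus hT hp hf hn hex1 hex2 hR (full_of_not_derT hcon) S hna hC hS hch
  obtain ⟨r, hr, hlt⟩ := exists_big hp hf (n := n) (by omega) (by
    rintro ⟨rfl, h⟩
    have : f * 4 ≤ f * n := Nat.mul_le_mul_left _ hn
    obtain rfl : f = 1 := by omega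
    exact h6 ⟨by omega, rfl⟩)
  exact hcon (derT_named_oplus hT hr (by omega) he R
    (cyc_four S hna hC (Or.inr hg) hS hp hf hr hlt (by omega) he))

end Cfsg.Agent.H264.FKS
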