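import Mathlib
import Cfsg.Agent.H264.FKS.TwoRows
import Cfsg.Agent.H884.ElFin
import Cfsg.Agent.ClassicalGeometry.SympBasic

/-!
# The pairs of `TwoRows` for `n = 6`, `q = 2`: elements of order 7 (helper264)
-/

set_option autoImplicit false

namespace Cfsg.Agent.H264.FKS

open Cfsg Cfsg.Agent.OrdDiv Cfsg.Agent.H436 Cfsg.Agent.H915.GN Cfsg.Agent.H264.GN Cfsg.Agent.H200.LinFix Module
  Cfsg.Agent.LieClassical.OmegaReindex

universe u

theorem cyc_of_card {r : ℕ} (hr : r.Prime) {R : Type*} [Group R] [Finite R] (h : ¬ r ^ 2 ∣ Nat.card R) : Cyc r R := by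
  intro P hP
  haveI : Fact r.Prime := ⟨hr⟩
  obtain ⟨k, hk⟩ := (IsPGroup.iff_card).1 hP
  have h1 : k ≤ 1 := by
    by_contra h2
    exact h ((pow_dvd_pow r (by omega : 2 ≤ k)).trans (hk ▸ Subgroup.card_subgroup_dvd_card P))
  interval_cases k
  · rw [pow_zero] at hk
    have : Subsingleton P := (Nat.card_eq_one_iff_unique.1 hk).1
    infer_instance
  · rw [pow_one] at hk
    exact isCyclic_of_prime_card hk

theorem cyc_six {R : Type u} [Group R] [Finite R] {g : Grp} (S : Subgroup R) [S.Normal] [IsSimpleGroup S]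
    (hna : ¬ IsMulCommutative S) (hC : Subgroup.centralizer (S : Set R) = ⊥) (h : Four 2 1 6 g)
    (hS : IsNamed g S) : Cyc 7 R := by
  have hp7 : Nat.Prime 7 := by norm_num
  apply cyc_of_card hp7
  intro h1
  have h2 := h1.trans (dvd_aut S hC)
  rw [← H934.OutB.card_out_mul S hna] at h2
  have h3 := four_out hna h hS Nat.prime_two le_rfl hp7 (by norm_num) (by norm_num) (by norm_num)
  have h4 : 7 ^ 2 ∣ Nat.card S :=
    (Nat.Coprime.pow_left _ ((Nat.Prime.coprime_iff_not_dvd hp7).2 h3)).dvd_of_dvd_mul_left h2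
  have h5 : 7 ^ 2 ∣ num g := by
    rw [← hS.eq]
    exact h4.mul_left _
  rcases h with rfl | rfl | rfl | rfl
  · have h6 : 7 ^ 2 ∣ (2 ^ 1) ^ (6 * (6 - 1)) * (((2 ^ 1) ^ 6 + 1) * prB (2 ^ 1) (6 - 1)) := h5
    rw [prB_eq] at h6
    revert h6
    decide
  · have h6 : 7 ^ 2 ∣ glN (6 - 1) (2 ^ (2 * 1)) := h5
    rw [glN_eq] at h6
    revert h6
    decide
  · have h6 : 7 ^ 2 ∣ (2 ^ 1) ^ ((6 - 1) ^ 2) * prB (2 ^ 1) (6 - 1) := h5
    rw [prB_eq] at h6
    revert h6
    decide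
  · have h6 : 7 ^ 2 ∣ (2 ^ 1) ^ ((6 - 1) ^ 2) * prB (2 ^ 1) (6 - 1) := h5
    rw [prB_eq] at h6
    revert h6
    decide

section Elements

variable {F : Type} [Field F] [Fintype F]

theorem char_two (hF : Nat.card F = 2) : CharP F 2 := by
  obtain ⟨p, hp⟩ := CharP.exists F
  have hpp : p.Prime := CharP.char_is_prime F p
  obtain ⟨n, hn⟩ := FiniteField.card F p
  rw [← Nat.card_eq_fintype_card, hF] at hn
  have h1 : p ∣ 2 := by rw [hn.2]; exact dvd_pow_self p n.ne_zero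
  have h2 : p = 2 := (Nat.prime_dvd_prime_iff_eq hpp Nat.prime_two).1 h1
  exact h2 ▸ hp

theorem pp_seven (hF : Nat.card F = 2) : H884.El.PP (Nat.card F) 3 7 := by
  rw [hF]
  refine ⟨by norm_num, ?_⟩
  apply orderOf_eq_prime
  · decide
  · decide

theorem prim_seven (hF : Nat.card F = 2) : Prim (Nat.card F) 3 7 := by
  rw [hF]
  refine ⟨by norm_num, fun m => ?_, by norm_num⟩
  have h1 : orderOf ((2 : ℕ) : ZMod 7) = 3 := by
    apply orderOf_eq_prime
    · decide
    · decide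
  rw [← h1, orderOf_dvd_iff_pow_eq_one, ← ZMod.natCast_eq_zero_iff, Nat.cast_sub (Nat.one_le_two_pow), sub_eq_zero]
  push_cast
  rfl

theorem finrank_K_add {ι : Type} [Fintype ι] [DecidableEq ι] (g : Matrix.GeneralLinearGroup ι F) :
    finrank F (K (H884.El.lin g)) + finrank F (H951.cm (H884.El.lin g)) = Fintype.card ι := by
  have h1 := LinearMap.finrank_range_add_finrank_ker (H884.El.lin g - 1)
  rw [Module.finrank_fintype_fun_eq_card] at h1
  rw [add_comm]
  exact h1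

/-- elements of order 7 of `O^+_12(2)` -/
theorem exists_seven (hF : Nat.card F = 2) : ∃ g₁ ∈ isometryGroup F (⇑(quadPlus 6 F)),
    ∃ g₂ ∈ isometryGroup F (⇑(quadPlus 6 F)), g₁ ^ 7 = 1 ∧ g₁ ≠ 1 ∧ g₂ ^ 7 = 1 ∧ g₂ ≠ 1 ∧
      finrank F (K (H884.El.lin g₁)) ≠ finrank F (K (H884.El.lin g₂)) := by
  have hc : Fintype.card (Fin 6 ⊕ Fin 6) = 12 := by simp
  have hnd : LieClassical.OrthCore.Nondeg (quadPlus 6 F) := H955.nondeg_iff.2 quadPlus_nondegenerate
  obtain ⟨g₁, h1, h1r, h1n, h1d⟩ := H884.El.exists_g_odd (A := 1) hnd (pp_seven hF) (by decide) (by norm_num) le_rfl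
    (Or.inl ⟨by rw [hc]; decide, Or.inl (by rw [hc]; norm_num)⟩)
  obtain ⟨g₂, h2, h2r, h2n, h2d⟩ := H884.El.exists_g_odd (A := 2) hnd (pp_seven hF) (by decide) (by norm_num)
    (by norm_num) (Or.inl ⟨by rw [hc]; decide, Or.inr ⟨by rw [hc], H884.El.isPlus_quadPlus 6⟩⟩)
  refine ⟨g₁, h1, g₂, h2, h1r, h1n, h2r, h2n, fun h => ?_⟩
  have h3 := finrank_K_add g₁
  have h4 := finrank_K_add g₂
  rw [h1d] at h3
  rw [h2d] at h4
  omega

theorem derT_six_plus (hF : Nat.card F = 2) (R : Subgroup (POmega F (⇑(quadPlus 6 F)))) (hR : Cyc 7 R) :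
    H278.El.DerT (POmega F (⇑(quadPlus 6 F))) R := by
  obtain ⟨g₁, h1, g₂, h2, h1r, h1n, h2r, h2n, hne⟩ := exists_seven hF
  have hp7 : Nat.Prime 7 := by norm_num
  haveI : Fact (Nat.Prime 7) := ⟨hp7⟩
  have hc : Fintype.card (Fin 6 ⊕ Fin 6) = 12 := by simp
  obtain ⟨y₁, hy₁⟩ := H884.El.exists_omega (H884.El.data_plus (by norm_num)) h1 (by decide) h1r
  obtain ⟨y₂, hy₂⟩ := H884.El.exists_omega (H884.El.data_plus (by norm_num)) h2 (by decide) h2r
  let σ : Omega F (⇑(quadPlus 6 F)) →* Matrix.GeneralLinearGroup (Fin 6 ⊕ Fin 6) F :=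
    (isometryGroup F (⇑(quadPlus 6 F))).subtype.comp (Omega F (⇑(quadPlus 6 F))).subtype
  have hσ : Function.Injective σ := (Subgroup.subtype_injective _).comp (Subgroup.subtype_injective _)
  have ho : ∀ {y : Omega F (⇑(quadPlus 6 F))} {g : Matrix.GeneralLinearGroup (Fin 6 ⊕ Fin 6) F}, σ y = g → g ^ 7 = 1 →
      g ≠ 1 → orderOf y = 7 := fun {y g} hy h3 h4 => by
    rw [← orderOf_injective σ hσ, hy]
    exact orderOf_eq_prime h3 h4
  refine derT_of_two σ hσ (QuotientGroup.mk' (Subgroup.center (Omega F (⇑(quadPlus 6 F)))))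
    (QuotientGroup.mk'_surjective _) (fun k hk => ?_) (prim_seven hF) (by norm_num) (ho hy₁ h1r h1n) (ho hy₂ h2r h2n)
    ?_ R hR
  · have h5 := (QuotientGroup.eq_one_iff k).1 hk
    rcases (LieClassical.OmegaCenter.mem_center_omega_iff (quadPlus 6 F) quadPlus_nondegenerate (by rw [hc]; norm_num)
      (quadPlus_isotropic (by norm_num)) k).1 h5 with h6 | h6
    · exact ⟨1, by rw [one_smul]; exact h6⟩
    · exact ⟨-1, by rw [neg_one_smul]; exact h6⟩
  · have h5 : ∀ {y : Omega F (⇑(quadPlus 6 F))} {g : Matrix.GeneralLinearGroup (Fin 6 ⊕ Fin 6) F}, σ y = g →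
        lin σ y = H884.El.lin g := fun {y g} hy => by
      rw [← hy]
      ext v
      rfl
    rw [h5 hy₁, h5 hy₂]
    exact hne

open ClassicalGeometry.SympBasic in
theorem mem_symp (hF : Nat.card F = 2) {g : Matrix.GeneralLinearGroup (Fin 6 ⊕ Fin 6) F}
    (hg : g ∈ isometryGroup F (⇑(quadPlus 6 F))) : (g : Matrix _ _ F) ∈ Matrix.symplecticGroup (Fin 6) F := by
  haveI := char_two hF
  rw [mem_symplecticGroup_iff]
  have h1 : ∀ u v : Fin 6 ⊕ Fin 6 → F, sympForm 6 F u v = QuadraticMap.polar (⇑(quadPlus 6 F)) u v := fun u v => by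
    rw [sympForm_eq_sum, polar_quadPlus]
    refine Finset.sum_congr rfl fun i _ => ?_
    rw [CharTwo.sub_eq_add]
    ring
  have h2 := H343.Blk.mem_iso.1 hg
  intro u v
  rw [h1, h1, QuadraticMap.polar, QuadraticMap.polar, ← Matrix.mulVec_add, h2, h2, h2]

theorem derT_six_symp (hF : Nat.card F = 2) (R : Subgroup (PSp 6 F)) (hR : Cyc 7 R) :
    H278.El.DerT (PSp 6 F) R := by
  obtain ⟨g₁, h1, g₂, h2, h1r, h1n, h2r, h2n, hne⟩ := exists_seven hF
  have hp7 : Nat.Prime 7 := by norm_num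
  haveI : Fact (Nat.Prime 7) := ⟨hp7⟩
  let σ : Matrix.symplecticGroup (Fin 6) F →* Matrix.GeneralLinearGroup (Fin 6 ⊕ Fin 6) F :=
    MonoidHom.toHomUnits (Matrix.symplecticGroup (Fin 6) F).subtype
  have hσ : Function.Injective σ := fun a b hab => Subtype.ext (congrArg Units.val hab)
  have ho : ∀ {y : Matrix.symplecticGroup (Fin 6) F} {g : Matrix.GeneralLinearGroup (Fin 6 ⊕ Fin 6) F},
      σ y = g → g ^ 7 = 1 → g ≠ 1 → orderOf y = 7 := fun {y g} hy h3 h4 => by
    rw [← orderOf_injective σ hσ, hy]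
    exact orderOf_eq_prime h3 h4
  have hy : ∀ {g : Matrix.GeneralLinearGroup (Fin 6 ⊕ Fin 6) F} (hg : g ∈ isometryGroup F (⇑(quadPlus 6 F))),
      σ ⟨(g : Matrix _ _ F), mem_symp hF hg⟩ = g := fun {g} hg => Units.ext rfl
  refine derT_of_two σ hσ (QuotientGroup.mk' (Subgroup.center (Matrix.symplecticGroup (Fin 6) F)))
    (QuotientGroup.mk'_surjective _) (fun k hk => ?_) (prim_seven hF) (by norm_num) (ho (hy h1) h1r h1n)
    (ho (hy h2) h2r h2n) ?_ R hR
  · have h1 := (QuotientGroup.eq_one_iff k).1 hk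
    exact (LieClassical.SympCenter.mem_center_iff 6 k).1 h1
  · have h5 : ∀ {y : Matrix.symplecticGroup (Fin 6) F} {g : Matrix.GeneralLinearGroup (Fin 6 ⊕ Fin 6) F}, σ y = g →
        lin σ y = H884.El.lin g := fun {y g} hy => by
      rw [← hy]
      ext v
      rfl
    rw [h5 (hy h1), h5 (hy h2)]
    exact hne

end Elements

theorem card_two_of {F : Type} [Fintype F] {q : ℕ} (h : Fintype.card F = q) (hq : q = 2) : Nat.card F = 2 := by
  rw [Nat.card_eq_fintype_card, h, hq]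

theorem derT_named_six_plus {T : Type u} [Group T] (hT : IsNamed (.oplus 6 (2 ^ 1)) T) (R : Subgroup T)
    (hR : Cyc 7 R) : H278.El.DerT T R := by
  obtain ⟨F, _, _, hF, ⟨Φ⟩⟩ := hT.real
  have h1 : Cyc 7 (R.comap Φ.symm.toMonoidHom) := by
    refine hR.of_injective ((Φ.symm.toMonoidHom.comp (R.comap Φ.symm.toMonoidHom).subtype).codRestrict R
      fun x => x.2) fun x y hxy => ?_
    exact Subtype.ext (Φ.symm.injective (congrArg Subtype.val hxy))
  have key : ∀ (R : Subgroup (POmega F (⇑(quadPlus 6 F)))), Cyc 7 R →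
      H278.El.DerT (POmega F (⇑(quadPlus 6 F))) R := fun R hR =>
    derT_six_plus (card_two_of hF rfl) R hR
  rw [coe_quadPlus] at key
  exact (key _ h1).congr Φ.symm

theorem derT_named_six_symp {T : Type u} [Group T] (hT : IsNamed (.psp 6 (2 ^ 1)) T) (R : Subgroup T)
    (hR : Cyc 7 R) : H278.El.DerT T R := by
  obtain ⟨F, _, _, hF, ⟨Φ⟩⟩ := hT.real
  have h1 : Cyc 7 (R.comap Φ.symm.toMonoidHom) := by
    refine hR.of_injective ((Φ.symm.toMonoidHom.comp (R.comap Φ.symm.toMonoidHom).subtype).codRestrict R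
      fun x => x.2) fun x y hxy => ?_
    exact Subtype.ext (Φ.symm.injective (congrArg Subtype.val hxy))
  exact (derT_six_symp (card_two_of hF rfl) _ h1).congr Φ.symm

variable {p f n : ℕ} {g : Grp} {T : Type u} [Group T] [Finite T] {R : Subgroup T}

/-- **`T = PSp_{2n}(q)`, `n ≥ 3`**, `(n, q) ≠ (3, 2), (4, 2)`. -/
theorem derT_psp_all (hT : IsNamed (.psp n (p ^ f)) T) (hp : p.Prime) (hf : 1 ≤ f) (hn : 3 ≤ n)
    (hex : ¬ (p ^ f = 2 ∧ n ≤ 4)) (hR : R ≠ ⊤)
    (S : Subgroup R) [S.Normal] [IsSimpleGroup S] (hna : ¬ IsMulCommutative S)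
    (hC : Subgroup.centralizer (S : Set R) = ⊥) (hS : IsNamed g S) (hch : HasChar p g) : H278.El.DerT T R := by
  have key : ∀ k, 2 ≤ k → k ≤ n → n ≤ k + 1 → ¬ (p = 2 ∧ f * (2 * k) = 6) := by
    rintro k hk hkn hkn' ⟨rfl, h⟩
    have h1 : f * k = 3 := by
      have : f * (2 * k) = 2 * (f * k) := by ring
      omega
    have h2 : k ∣ 3 := ⟨f, by rw [← h1, mul_comm]⟩
    have h3 := Nat.le_of_dvd (by norm_num) h2
    interval_cases k
    · omega
    · obtain rfl : f = 1 := by omega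
      exact hex ⟨rfl, by omega⟩
  by_cases h6 : n = 6 ∧ p ^ f = 2
  · obtain ⟨rfl, h6⟩ := h6
    have hp2 : p = 2 := by
      have : p ∣ 2 := by rw [← h6]; exact dvd_pow_self p (by omega)
      exact (Nat.prime_dvd_prime_iff_eq hp Nat.prime_two).1 this
    subst hp2
    have hf1 : f = 1 := by
      have : (2 : ℕ) ^ f = 2 ^ 1 := h6
      exact Nat.pow_right_injective le_rfl this
    subst hf1
    by_contra hcon
    obtain ⟨-, hg⟩ := full_psp hT hp hf hn (key 6 (by norm_num) le_rfl (by norm_num))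
      (key 5 (by norm_num) (by norm_num) (by norm_num)) hR (full_of_not_derT hcon) S hna hC hS hch
    exact hcon (derT_named_six_symp hT R (cyc_six S hna hC (Or.inl hg) hS))
  · exact derT_psp' hT hp hf hn (key n (by omega) le_rfl (by omega)) (key (n - 1) (by omega) (by omega) (by omega)) h6
      hR S hna hC hS hch

/-- **`T = PΩ^+_{2n}(q)`, `n ≥ 4`**, `(n, q) ≠ (4, 2), (5, 2)`. -/
theorem derT_oplus_all (hT : IsNamed (.oplus n (p ^ f)) T) (hp : p.Prime) (hf : 1 ≤ f) (hn : 4 ≤ n)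
    (hex : ¬ (p ^ f = 2 ∧ n ≤ 5)) (hR : R ≠ ⊤)
    (S : Subgroup R) [S.Normal] [IsSimpleGroup S] (hna : ¬ IsMulCommutative S)
    (hC : Subgroup.centralizer (S : Set R) = ⊥) (hS : IsNamed g S) (hch : HasChar p g) : H278.El.DerT T R := by
  have key : ∀ k, 2 ≤ k → k + 1 ≤ n → n ≤ k + 2 → ¬ (p = 2 ∧ f * (2 * k) = 6) := by
    rintro k hk hkn hkn' ⟨rfl, h⟩
    have h1 : f * k = 3 := by
      have : f * (2 * k) = 2 * (f * k) := by ring
      omega
    have h2 : k ∣ 3 := ⟨f, by rw [← h1, mul_comm]⟩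
    have h3 := Nat.le_of_dvd (by norm_num) h2
    interval_cases k
    · omega
    · obtain rfl : f = 1 := by omega
      exact hex ⟨rfl, by omega⟩
  by_cases h6 : n = 6 ∧ p ^ f = 2
  · obtain ⟨rfl, h6⟩ := h6
    have hp2 : p = 2 := by
      have : p ∣ 2 := by rw [← h6]; exact dvd_pow_self p (by omega)
      exact (Nat.prime_dvd_prime_iff_eq hp Nat.prime_two).1 this
    subst hp2
    have hf1 : f = 1 := by
      have : (2 : ℕ) ^ f = 2 ^ 1 := h6
      exact Nat.pow_right_injective le_rfl this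
    subst hf1
    by_contra hcon
    obtain ⟨-, hg⟩ := full_oplus hT hp hf hn (key 5 (by norm_num) (by norm_num) (by norm_num))
      (key 4 (by norm_num) (by norm_num) (by norm_num)) hR (full_of_not_derT hcon) S hna hC hS hch
    exact hcon (derT_named_six_plus hT R (cyc_six S hna hC (Or.inr hg) hS))
  · exact derT_oplus' hT hp hf hn (key (n - 1) (by omega) (by omega) (by omega))
      (key (n - 2) (by omega) (by omega) (by omega)) h6 hR S hna hC hS hch

end Cfsg.Agent.H264.FKS
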