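import Mathlib
import Cfsg.Prelude.Def_GeometricClasses

/-!
# The socle of the image of a group in the residual Aschbacher class (helper264)

`exists_socle`: `T = X / Z`, `X` a linear group, `Z` its scalars; if the preimage of `M ≤ T` in `GL` has a residual core
`P` then `M` has a normal nonabelian simple subgroup with trivial centraliser, isomorphic with `P` modulo scalars.
-/

set_option autoImplicit false

namespace Cfsg.Agent.H264.FKS

open Cfsg Cfsg.Geo Matrix

variable {F : Type*} [Field F] {ι : Type} [Fintype ι] [DecidableEq ι] {X T : Type*} [Group X] [Group T]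

theorem exists_socle (σ : X →* GL ι F) (hσ : Function.Injective σ) (π : X →* T) (hπ : Function.Surjective π)
    (hker : ∀ x, π x = 1 ↔ σ x ∈ scalars ι F) {M : Subgroup T} {P : Subgroup (GL ι F)}
    (h : IsResidualCore ((M.comap π).map σ) P) :
    ∃ S : Subgroup M, S.Normal ∧ IsSimpleGroup S ∧ (¬ IsMulCommutative S) ∧ Subgroup.centralizer (S : Set M) = ⊥ ∧
      Nonempty (S ≃* P ⧸ (scalars ι F).subgroupOf P) := by
  -- the map from `P` to `M`
  have hx : ∀ y : P, ∃ x : X, σ x = y ∧ π x ∈ M := fun y => by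
    obtain ⟨x, hx, hxy⟩ := h.le y.2
    exact ⟨x, hxy, hx⟩
  choose u hu huM using hx
  have hmul : ∀ a b : P, u (a * b) = u a * u b := fun a b => hσ (by rw [hu, map_mul, hu, hu]; rfl)
  let φ : P →* M :=
    { toFun := fun y => ⟨π (u y), huM y⟩
      map_one' := Subtype.ext (by
        have : u 1 = 1 := hσ (by rw [hu, map_one]; rfl)
        change π (u 1) = 1
        rw [this, map_one])
      map_mul' := fun a b => Subtype.ext (by
        change π (u (a * b)) = π (u a) * π (u b)
        rw [hmul, map_mul]) }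
  have hφ : ∀ y : P, ((φ y : M) : T) = π (u y) := fun _ => rfl
  have hkerφ : φ.ker = (scalars ι F).subgroupOf P := by
    ext y
    rw [MonoidHom.mem_ker, Subgroup.mem_subgroupOf, ← hu y, ← hker]
    constructor
    · intro h1
      exact congrArg Subtype.val h1
    · intro h1
      exact Subtype.ext h1
  have e : φ.range ≃* P ⧸ (scalars ι F).subgroupOf P :=
    (QuotientGroup.quotientKerEquivRange φ).symm.trans (QuotientGroup.quotientMulEquivOfEq hkerφ)
  refine ⟨φ.range, ?_, ?_, ?_, ?_, ⟨e⟩⟩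
  · refine ⟨?_⟩
    rintro _ ⟨y, rfl⟩ m
    obtain ⟨x, hx⟩ := hπ m
    have hxH : σ x ∈ (M.comap π).map σ := ⟨x, by rw [SetLike.mem_coe, Subgroup.mem_comap, hx]; exact m.2, rfl⟩
    have h1 := h.normal _ hxH _ y.2
    refine ⟨⟨_, h1⟩, ?_⟩
    apply Subtype.ext
    rw [hφ, Subgroup.coe_mul, Subgroup.coe_mul, Subgroup.coe_inv, hφ, ← hx]
    have h2 : u ⟨σ x * y * (σ x)⁻¹, h1⟩ = x * u y * x⁻¹ := hσ (by
      rw [hu, map_mul, map_mul, map_inv, hu])
    rw [h2, map_mul, map_mul, map_inv]
  · haveI := h.simple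
    exact e.isSimpleGroup
  · intro hc
    apply h.nonabelian
    refine ⟨⟨fun a b => ?_⟩⟩
    apply e.symm.injective
    rw [map_mul, map_mul]
    exact hc.is_comm.comm _ _
  · rw [eq_bot_iff]
    intro m hm
    rw [Subgroup.mem_centralizer_iff] at hm
    obtain ⟨x, hx⟩ := hπ m
    have hxH : σ x ∈ (M.comap π).map σ := ⟨x, by rw [SetLike.mem_coe, Subgroup.mem_comap, hx]; exact m.2, rfl⟩
    have h1 : σ x ∈ scalars ι F := by
      refine h.centralizer_scalar _ hxH fun y hy => ?_
      have h2 := hm (φ ⟨y, hy⟩) ⟨_, rfl⟩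
      have h3 : π (u ⟨y, hy⟩) * m = m * π (u ⟨y, hy⟩) := congrArg Subtype.val h2
      have h4 : π (x * u ⟨y, hy⟩ * x⁻¹ * (u ⟨y, hy⟩)⁻¹) = 1 := by
        rw [map_mul, map_mul, map_mul, map_inv, map_inv, hx, ← h3]
        group
      have h5 := (hker _).1 h4
      rwa [map_mul, map_mul, map_mul, map_inv, map_inv, hu] at h5
    rw [Subgroup.mem_bot]
    apply Subtype.ext
    rw [← hx]
    exact (hker x).2 h1

end Cfsg.Agent.H264.FKS
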