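import Cfsg.Agent.H264.FKS.Names
import Cfsg.Agent.H278.ElCrossIface

/-!
# TEAM ELUSIVE, cross characteristic: the large primes of `6 f |S|`, exceptional families (helper264)

`few_X`: for an exceptional name `g` with field `s = p ^ f` and `lsb g ≥ 37` there is a list of at most five
numbers less than `(lsb g - 11) ^ 2` such that each prime `t ≥ lsb g - 11` dividing `6 f |S|` divides
one of them.
-/

set_option autoImplicit false

namespace Cfsg.Agent.H264.FKS.FewExc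

open Cfsg.Agent.OrdDiv Cfsg.Agent.H436 Cfsg.Agent.H264.FKS Cfsg.Agent.H927.SgX

/-- (the unfolded form of the statement) -/
def FewB (B f c : ℕ) : Prop :=
  ∃ L : List ℕ, L.length ≤ 5 ∧ (∀ x ∈ L, 0 < x ∧ x < B ^ 2) ∧
    ∀ t, t.Prime → B ≤ t → t ∣ 6 * f * c → ∃ x ∈ L, t ∣ x

theorem few_of {B N f c : ℕ} {L S : List ℕ} (hL : L.length ≤ 5) (hL2 : ∀ x ∈ L, 0 < x ∧ x < B ^ 2)
    (hB : 3 < B) (hf : 0 < f) (hfB : f < B) (hc : c ∣ N) (hS : ∀ x ∈ S, 0 < x ∧ x < B)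
    (hN : ∀ t, t.Prime → t ∣ N → (∃ x ∈ S, t ∣ x) ∨ ∃ x ∈ L, t ∣ x) : FewB B f c := by
  refine ⟨L, hL, hL2, fun t ht htB htd => ?_⟩
  rcases ht.dvd_mul.1 htd with h1 | h1
  · rcases ht.dvd_mul.1 h1 with h2 | h2
    · exfalso
      have h3 : t ∣ 2 * 3 := h2
      rcases ht.dvd_mul.1 h3 with h4 | h4
      · have := Nat.le_of_dvd (by norm_num) h4; omega
      · have := Nat.le_of_dvd (by norm_num) h4; omega
    · exact absurd (Nat.le_of_dvd hf h2) (by omega)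
  · rcases hN t ht (h1.trans hc) with ⟨x, hx, h2⟩ | h2
    · obtain ⟨h3, h4⟩ := hS x hx
      exact absurd (Nat.le_of_dvd h3 h2) (by omega)
    · exact h2

section Split

variable {t s : ℕ} (ht : t.Prime)

include ht

theorem sp {k : ℕ} (h : t ∣ s ^ (2 * k) - 1) : t ∣ s ^ k - 1 ∨ t ∣ s ^ k + 1 := by
  rw [mul_comm, pow_mul, sq_sub] at h
  exact (ht.dvd_mul.1 h).symm

theorem pow_pr {k : ℕ} (h : t ∣ s ^ k) : t ∣ s := ht.dvd_of_dvd_pow h

theorem c3 {u : ℕ} (h : t ∣ u ^ 3 - 1) : t ∣ u - 1 ∨ t ∣ u ^ 2 + u + 1 := by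
  rcases Nat.eq_zero_or_pos u with rfl | hu
  · left; simp
  · obtain ⟨v, rfl⟩ : ∃ v, u = v + 1 := ⟨u - 1, by omega⟩
    have h1 : (v + 1) ^ 3 - 1 = (v + 1 - 1) * ((v + 1) ^ 2 + (v + 1) + 1) := by
      rw [Nat.add_sub_cancel]
      apply Nat.sub_eq_of_eq_add
      ring
    rw [h1] at h
    exact ht.dvd_mul.1 h

theorem c3' {u : ℕ} (h : t ∣ u ^ 3 + 1) : t ∣ u + 1 ∨ t ∣ u ^ 2 - u + 1 := by
  rcases Nat.eq_zero_or_pos u with rfl | hu
  · left; simpa using h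
  · obtain ⟨v, rfl⟩ : ∃ v, u = v + 1 := ⟨u - 1, by omega⟩
    have h0 : (v + 1) ^ 2 - (v + 1) = v * (v + 1) := by
      apply Nat.sub_eq_of_eq_add
      ring
    have h1 : (v + 1) ^ 3 + 1 = (v + 1 + 1) * ((v + 1) ^ 2 - (v + 1) + 1) := by
      rw [h0]
      ring
    rw [h1] at h
    exact ht.dvd_mul.1 h

end Split

theorem inS {t x : ℕ} {S L : List ℕ} (h : t ∣ x) (hx : x ∈ S) : (∃ x ∈ S, t ∣ x) ∨ ∃ x ∈ L, t ∣ x :=
  Or.inl ⟨x, hx, h⟩

theorem inL {t x : ℕ} {S L : List ℕ} (h : t ∣ x) (hx : x ∈ L) : (∃ x ∈ S, t ∣ x) ∨ ∃ x ∈ L, t ∣ x :=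
  Or.inr ⟨x, hx, h⟩

theorem fpos {s p f : ℕ} (hs : 2 ≤ s) (hf : s = p ^ f) : 0 < f ∧ f < s := by
  have h1 : 0 < f := by
    rcases Nat.eq_zero_or_pos f with rfl | h
    · rw [pow_zero] at hf; omega
    · exact h
  have h2 : 2 ≤ p := by
    by_contra hcon
    have h3 : p ^ f ≤ 1 := Nat.pow_le_one_iff h1.ne' |>.2 (by omega)
    omega
  refine ⟨h1, ?_⟩
  rw [hf]
  exact Nat.lt_pow_self h2

variable {s p f c : ℕ}

theorem few_g2_aux (he : den (.g2 s) * c = num (.g2 s)) (hf : s = p ^ f) (hl : 37 ≤ lsb (.g2 s)) :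
    FewB (lsb (.g2 s) - 11) f c := by
  have hl' : 37 ≤ (if s ≤ 4 then 0 else (s - 1) * s) := hl
  have h5 : ¬ s ≤ 4 := by
    intro h
    rw [if_pos h] at hl'
    omega
  have hl2 : lsb (.g2 s) = (s - 1) * s := if_neg h5
  rw [hl2] at hl ⊢
  have hs : 7 ≤ s := by
    by_contra hcon
    have : (s - 1) * s ≤ 5 * 6 := Nat.mul_le_mul (by omega) (by omega)
    omega
  obtain ⟨hf0, hfs⟩ := fpos (by omega) hf
  have hc : c ∣ s ^ 6 * ((s ^ 2 - 1) * (s ^ 6 - 1)) := Dvd.intro_left _ he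
  obtain ⟨B, hB⟩ : ∃ B, B = (s - 1) * s - 11 := ⟨_, rfl⟩
  rw [← hB]
  obtain ⟨v, rfl⟩ : ∃ v, s = v + 7 := ⟨s - 7, by omega⟩
  have hB1 : 4 * (v + 7) ≤ B := by
    rw [hB]
    have : 4 * (v + 7) + 11 ≤ (v + 7 - 1) * (v + 7) := by
      rw [show v + 7 - 1 = v + 6 by omega]
      nlinarith [Nat.zero_le v]
    omega
  refine few_of (L := [(v + 7) ^ 2 + (v + 7) + 1, (v + 7) ^ 2 - (v + 7) + 1]) (S := [v + 7, v + 7 - 1, v + 7 + 1])
    (by simp) ?_ (by omega) hf0 (by omega) hc ?_ ?_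
  · have h1 : (4 * (v + 7)) ^ 2 ≤ B ^ 2 := Nat.pow_le_pow_left hB1 2
    have h2 : (v + 7) ^ 2 + (v + 7) + 1 < (4 * (v + 7)) ^ 2 := by nlinarith [Nat.zero_le v]
    intro x hx
    simp only [List.mem_cons, List.not_mem_nil, or_false] at hx
    rcases hx with rfl | rfl <;> omega
  · intro x hx
    simp only [List.mem_cons, List.not_mem_nil, or_false] at hx
    rcases hx with rfl | rfl | rfl <;> omega
  · intro t ht h
    obtain ⟨s, hs⟩ : ∃ s, v + 7 = s := ⟨_, rfl⟩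
    rw [hs] at h ⊢
    rcases ht.dvd_mul.1 h with h1 | h1
    · exact inS (pow_pr ht h1) (by simp)
    rcases ht.dvd_mul.1 h1 with h2 | h2
    · rcases sp ht (k := 1) h2 with h3 | h3 <;> rw [pow_one] at h3 <;> exact inS h3 (by simp)
    · rcases sp ht (k := 3) h2 with h3 | h3
      · rcases c3 ht h3 with h4 | h4
        · exact inS h4 (by simp)
        · exact inL h4 (by simp)
      · rcases c3' ht h3 with h4 | h4
        · exact inS h4 (by simp)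
        · exact inL h4 (by simp)

theorem few_f4_aux (hs2 : 2 ≤ s) (he : den (.f4 s) * c = num (.f4 s)) (hf : s = p ^ f) (hl : 37 ≤ lsb (.f4 s)) :
    FewB (lsb (.f4 s) - 11) f c := by
  have hl' : 37 ≤ (if s = 2 then 0 else (s - 1) * s ^ 3) := hl
  have h5 : ¬ s = 2 := by
    intro h
    rw [if_pos h] at hl'
    omega
  have hl2 : lsb (.f4 s) = (s - 1) * s ^ 3 := if_neg h5
  rw [hl2] at hl ⊢
  have hs : 3 ≤ s := by omega
  obtain ⟨hf0, hfs⟩ := fpos (by omega) hf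
  have hc : c ∣ s ^ 24 * ((s ^ 2 - 1) * (s ^ 6 - 1) * (s ^ 8 - 1) * (s ^ 12 - 1)) := Dvd.intro_left _ he
  obtain ⟨B, hB⟩ : ∃ B, B = (s - 1) * s ^ 3 - 11 := ⟨_, rfl⟩
  rw [← hB]
  have a1 : 3 * s ≤ s ^ 2 := by rw [sq]; exact Nat.mul_le_mul_right _ hs
  have a2 : 3 * s ^ 2 ≤ s ^ 3 := by rw [pow_succ s 2, mul_comm]; exact Nat.mul_le_mul_left _ hs
  have a3 : 3 * s ^ 3 ≤ s ^ 4 := by rw [pow_succ s 3, mul_comm]; exact Nat.mul_le_mul_left _ hs
  have hB1 : s ^ 3 ≤ B := by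
    rw [hB]
    have : 2 * s ^ 3 ≤ (s - 1) * s ^ 3 := Nat.mul_le_mul_right _ (by omega)
    omega
  have hB2 : 9 * s ^ 4 ≤ B ^ 2 := by
    calc 9 * s ^ 4 = 3 ^ 2 * s ^ 4 := by norm_num
      _ ≤ s ^ 2 * s ^ 4 := Nat.mul_le_mul_right _ (Nat.pow_le_pow_left hs 2)
      _ = (s ^ 3) ^ 2 := by ring
      _ ≤ B ^ 2 := Nat.pow_le_pow_left hB1 2
  refine few_of (L := [s ^ 4 + 1, (s ^ 2) ^ 2 - s ^ 2 + 1])
    (S := [s, s - 1, s + 1, s ^ 2 + s + 1, s ^ 2 - s + 1, s ^ 2 + 1])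
    (by simp) ?_ (by omega) hf0 (by omega) hc ?_ ?_
  · rw [show (s ^ 2) ^ 2 = s ^ 4 by ring]
    intro x hx
    simp only [List.mem_cons, List.not_mem_nil, or_false] at hx
    rcases hx with rfl | rfl <;> omega
  · intro x hx
    simp only [List.mem_cons, List.not_mem_nil, or_false] at hx
    rcases hx with rfl | rfl | rfl | rfl | rfl | rfl <;> omega
  · intro t ht h
    have k2 : t ∣ s ^ 2 - 1 → t ∣ s - 1 ∨ t ∣ s + 1 := fun h => by
      have := sp ht (k := 1) h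
      rwa [pow_one] at this
    have k6 : t ∣ s ^ 6 - 1 → t ∣ s - 1 ∨ t ∣ s + 1 ∨ t ∣ s ^ 2 + s + 1 ∨ t ∣ s ^ 2 - s + 1 := fun h => by
      rcases sp ht (k := 3) h with h3 | h3
      · rcases c3 ht h3 with h4 | h4
        · exact Or.inl h4
        · exact Or.inr (Or.inr (Or.inl h4))
      · rcases c3' ht h3 with h4 | h4
        · exact Or.inr (Or.inl h4)
        · exact Or.inr (Or.inr (Or.inr h4))
    rcases ht.dvd_mul.1 h with h1 | h1
    · exact inS (pow_pr ht h1) (by simp)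
    rcases ht.dvd_mul.1 h1 with h2 | h2
    swap
    · rcases sp ht (k := 6) h2 with h5 | h5
      · rcases k6 h5 with h | h | h | h <;> exact inS h (by simp)
      · rw [show s ^ 6 = (s ^ 2) ^ 3 by ring] at h5
        rcases c3' ht h5 with h6 | h6
        · exact inS h6 (by simp)
        · exact inL h6 (by simp)
    rcases ht.dvd_mul.1 h2 with h3 | h3
    swap
    · rcases sp ht (k := 4) h3 with h5 | h5
      · rcases sp ht (k := 2) h5 with h6 | h6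
        · rcases k2 h6 with h | h <;> exact inS h (by simp)
        · exact inS h6 (by simp)
      · exact inL h5 (by simp)
    rcases ht.dvd_mul.1 h3 with h4 | h4
    · rcases k2 h4 with h | h <;> exact inS h (by simp)
    · rcases k6 h4 with h | h | h | h <;> exact inS h (by simp)

theorem few_td4_aux (he : den (.td4 s) * c = num (.td4 s)) (hf : s = p ^ f) (hl : 37 ≤ lsb (.td4 s)) :
    FewB (lsb (.td4 s) - 11) f c := by
  have hl' : 37 ≤ (if s ≤ 3 then 0 else (s - 1) * s ^ 3) := hl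
  have h5 : ¬ s ≤ 3 := by
    intro h
    rw [if_pos h] at hl'
    omega
  have hl2 : lsb (.td4 s) = (s - 1) * s ^ 3 := if_neg h5
  rw [hl2] at hl ⊢
  have hs : 4 ≤ s := by omega
  obtain ⟨hf0, hfs⟩ := fpos (by omega) hf
  have hc : c ∣ s ^ 12 * ((s ^ 2 - 1) * (s ^ 6 - 1) * (s ^ 8 + s ^ 4 + 1)) := Dvd.intro_left _ he
  obtain ⟨B, hB⟩ : ∃ B, B = (s - 1) * s ^ 3 - 11 := ⟨_, rfl⟩
  rw [← hB]
  have a1 : 4 * s ≤ s ^ 2 := by rw [sq]; exact Nat.mul_le_mul_right _ hs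
  have a2 : 4 * s ^ 2 ≤ s ^ 3 := by rw [pow_succ s 2, mul_comm]; exact Nat.mul_le_mul_left _ hs
  have a3 : 4 * s ^ 3 ≤ s ^ 4 := by rw [pow_succ s 3, mul_comm]; exact Nat.mul_le_mul_left _ hs
  have hB1 : s ^ 3 ≤ B := by
    rw [hB]
    have : 3 * s ^ 3 ≤ (s - 1) * s ^ 3 := Nat.mul_le_mul_right _ (by omega)
    omega
  have hB2 : 16 * s ^ 4 ≤ B ^ 2 := by
    calc 16 * s ^ 4 = 4 ^ 2 * s ^ 4 := by norm_num
      _ ≤ s ^ 2 * s ^ 4 := Nat.mul_le_mul_right _ (Nat.pow_le_pow_left hs 2)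
      _ = (s ^ 3) ^ 2 := by ring
      _ ≤ B ^ 2 := Nat.pow_le_pow_left hB1 2
  refine few_of (L := [s ^ 4 - s ^ 2 + 1])
    (S := [s, s - 1, s + 1, s ^ 2 + s + 1, s ^ 2 - s + 1])
    (by simp) ?_ (by omega) hf0 (by omega) hc ?_ ?_
  · intro x hx
    simp only [List.mem_cons, List.not_mem_nil, or_false] at hx
    rcases hx with rfl
    omega
  · intro x hx
    simp only [List.mem_cons, List.not_mem_nil, or_false] at hx
    rcases hx with rfl | rfl | rfl | rfl | rfl <;> omega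
  · intro t ht h
    have k2 : t ∣ s ^ 2 - 1 → t ∣ s - 1 ∨ t ∣ s + 1 := fun h => by
      have := sp ht (k := 1) h
      rwa [pow_one] at this
    have k6 : t ∣ s ^ 6 - 1 → t ∣ s - 1 ∨ t ∣ s + 1 ∨ t ∣ s ^ 2 + s + 1 ∨ t ∣ s ^ 2 - s + 1 := fun h => by
      rcases sp ht (k := 3) h with h3 | h3
      · rcases c3 ht h3 with h4 | h4
        · exact Or.inl h4
        · exact Or.inr (Or.inr (Or.inl h4))
      · rcases c3' ht h3 with h4 | h4
        · exact Or.inr (Or.inl h4)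
        · exact Or.inr (Or.inr (Or.inr h4))
    rcases ht.dvd_mul.1 h with h1 | h1
    · exact inS (pow_pr ht h1) (by simp)
    rcases ht.dvd_mul.1 h1 with h2 | h2
    · rcases ht.dvd_mul.1 h2 with h3 | h3
      · rcases k2 h3 with h | h <;> exact inS h (by simp)
      · rcases k6 h3 with h | h | h | h <;> exact inS h (by simp)
    · have e1 : s ^ 8 + s ^ 4 + 1 = (s ^ 2 + s + 1) * (s ^ 2 - s + 1) * (s ^ 4 - s ^ 2 + 1) := by
        obtain ⟨v, rfl⟩ : ∃ v, s = v + 1 := ⟨s - 1, by omega⟩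
        have h0 : (v + 1) ^ 2 - (v + 1) = v * (v + 1) := by
          apply Nat.sub_eq_of_eq_add
          ring
        have h0' : (v + 1) ^ 4 - (v + 1) ^ 2 = v * (v + 2) * (v + 1) ^ 2 := by
          apply Nat.sub_eq_of_eq_add
          ring
        rw [h0, h0']
        ring
      rw [e1] at h2
      rcases ht.dvd_mul.1 h2 with h3 | h3
      · rcases ht.dvd_mul.1 h3 with h4 | h4 <;> exact inS h4 (by simp)
      · exact inL h3 (by simp)

theorem pow_mono2 (hs : 2 ≤ s) (k : ℕ) : 2 * s ^ k ≤ s ^ (k + 1) := by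
  rw [pow_succ s k, mul_comm]; exact Nat.mul_le_mul_left _ hs

theorem few_e6_aux (hs : 2 ≤ s) (he : den (.e6 s) * c = num (.e6 s)) (hf : s = p ^ f) :
    FewB (lsb (.e6 s) - 11) f c := by
  have hl2 : lsb (.e6 s) = (s - 1) * s ^ 6 := rfl
  rw [hl2]
  obtain ⟨hf0, hfs⟩ := fpos (by omega) hf
  have hc : c ∣ s ^ 36 * ((s ^ 2 - 1) * (s ^ 5 - 1) * (s ^ 6 - 1) * (s ^ 8 - 1) * (s ^ 9 - 1) * (s ^ 12 - 1)) :=
    Dvd.intro_left _ he
  obtain ⟨B, hB⟩ : ∃ B, B = (s - 1) * s ^ 6 - 11 := ⟨_, rfl⟩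
  rw [← hB]
  have a1 := pow_mono2 hs 1
  rw [pow_one] at a1
  have a2 := pow_mono2 hs 2
  have a3 := pow_mono2 hs 3
  have a4 := pow_mono2 hs 4
  have a5 := pow_mono2 hs 5
  have a6 := pow_mono2 hs 6
  have a7 := pow_mono2 hs 7
  have a8 := pow_mono2 hs 8
  have a9 := pow_mono2 hs 9
  norm_num at a1 a2 a3 a4 a5 a6 a7 a8 a9
  have hB1 : s ^ 5 ≤ B := by
    rw [hB]
    have : 1 * s ^ 6 ≤ (s - 1) * s ^ 6 := Nat.mul_le_mul_right _ (by omega)
    omega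
  have hB2 : s ^ 10 ≤ B ^ 2 := by
    calc s ^ 10 = (s ^ 5) ^ 2 := by ring
      _ ≤ B ^ 2 := Nat.pow_le_pow_left hB1 2
  refine few_of (L := [s ^ 9 - 1, s ^ 6 + 1, s ^ 6 - 1, s ^ 5 - 1])
    (S := [s, s ^ 2 - 1, s ^ 4 - 1, s ^ 4 + 1])
    (by simp) ?_ (by omega) hf0 (by omega) hc ?_ ?_
  · intro x hx
    simp only [List.mem_cons, List.not_mem_nil, or_false] at hx
    rcases hx with rfl | rfl | rfl | rfl <;> omega
  · intro x hx
    simp only [List.mem_cons, List.not_mem_nil, or_false] at hx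
    rcases hx with rfl | rfl | rfl | rfl <;> omega
  · intro t ht h
    rcases ht.dvd_mul.1 h with h1 | h1
    · exact inS (pow_pr ht h1) (by simp)
    rcases ht.dvd_mul.1 h1 with h1 | h12
    swap
    · rcases sp ht (k := 6) h12 with h5 | h5 <;> exact inL h5 (by simp)
    rcases ht.dvd_mul.1 h1 with h1 | h9
    swap
    · exact inL h9 (by simp)
    rcases ht.dvd_mul.1 h1 with h1 | h8
    swap
    · rcases sp ht (k := 4) h8 with h5 | h5 <;> exact inS h5 (by simp)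
    rcases ht.dvd_mul.1 h1 with h1 | h6
    swap
    · exact inL h6 (by simp)
    rcases ht.dvd_mul.1 h1 with h1 | h5
    · exact inS h1 (by simp)
    · exact inL h5 (by simp)

theorem few_te6_aux (hs2 : 2 ≤ s) (he : den (.te6 s) * c = num (.te6 s)) (hf : s = p ^ f) (hl : 37 ≤ lsb (.te6 s)) :
    FewB (lsb (.te6 s) - 11) f c := by
  have hl' : 37 ≤ (if s = 2 then 0 else (s - 1) * s ^ 6) := hl
  have h5 : ¬ s = 2 := by
    intro h
    rw [if_pos h] at hl'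
    omega
  have hl2 : lsb (.te6 s) = (s - 1) * s ^ 6 := if_neg h5
  rw [hl2] at hl ⊢
  have hs : 2 ≤ s := by omega
  obtain ⟨hf0, hfs⟩ := fpos (by omega) hf
  have hc : c ∣ s ^ 36 * ((s ^ 2 - 1) * (s ^ 5 + 1) * (s ^ 6 - 1) * (s ^ 8 - 1) * (s ^ 9 + 1) * (s ^ 12 - 1)) :=
    Dvd.intro_left _ he
  obtain ⟨B, hB⟩ : ∃ B, B = (s - 1) * s ^ 6 - 11 := ⟨_, rfl⟩
  rw [← hB]
  have a1 := pow_mono2 hs 1
  rw [pow_one] at a1
  have a2 := pow_mono2 hs 2
  have a3 := pow_mono2 hs 3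
  have a4 := pow_mono2 hs 4
  have a5 := pow_mono2 hs 5
  have a6 := pow_mono2 hs 6
  have a7 := pow_mono2 hs 7
  have a8 := pow_mono2 hs 8
  have a9 := pow_mono2 hs 9
  have a10 := pow_mono2 hs 10
  have a11 := pow_mono2 hs 11
  norm_num at a1 a2 a3 a4 a5 a6 a7 a8 a9 a10 a11
  have hB1 : s ^ 6 ≤ B := by
    rw [hB]
    have : 2 * s ^ 6 ≤ (s - 1) * s ^ 6 := Nat.mul_le_mul_right _ (by omega)
    omega
  have hB2 : s ^ 12 ≤ B ^ 2 := by
    calc s ^ 12 = (s ^ 6) ^ 2 := by ring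
      _ ≤ B ^ 2 := Nat.pow_le_pow_left hB1 2
  refine few_of (L := [s ^ 9 + 1, s ^ 6 + 1, s ^ 6 - 1, s ^ 5 + 1])
    (S := [s, s ^ 2 - 1, s ^ 4 - 1, s ^ 4 + 1])
    (by simp) ?_ (by omega) hf0 (by omega) hc ?_ ?_
  · intro x hx
    simp only [List.mem_cons, List.not_mem_nil, or_false] at hx
    rcases hx with rfl | rfl | rfl | rfl <;> omega
  · intro x hx
    simp only [List.mem_cons, List.not_mem_nil, or_false] at hx
    rcases hx with rfl | rfl | rfl | rfl <;> omega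
  · intro t ht h
    rcases ht.dvd_mul.1 h with h1 | h1
    · exact inS (pow_pr ht h1) (by simp)
    rcases ht.dvd_mul.1 h1 with h1 | h12
    swap
    · rcases sp ht (k := 6) h12 with h5 | h5 <;> exact inL h5 (by simp)
    rcases ht.dvd_mul.1 h1 with h1 | h9
    swap
    · exact inL h9 (by simp)
    rcases ht.dvd_mul.1 h1 with h1 | h8
    swap
    · rcases sp ht (k := 4) h8 with h5 | h5 <;> exact inS h5 (by simp)
    rcases ht.dvd_mul.1 h1 with h1 | h6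
    swap
    · exact inL h6 (by simp)
    rcases ht.dvd_mul.1 h1 with h1 | h5
    · exact inS h1 (by simp)
    · exact inL h5 (by simp)

theorem few_e7_aux (hs : 2 ≤ s) (he : den (.e7 s) * c = num (.e7 s)) (hf : s = p ^ f) :
    FewB (lsb (.e7 s) - 11) f c := by
  have hl2 : lsb (.e7 s) = (s - 1) * s ^ 7 := rfl
  rw [hl2]
  obtain ⟨hf0, hfs⟩ := fpos (by omega) hf
  have hc : c ∣ s ^ 63 * ((s ^ 2 - 1) * (s ^ 6 - 1) * (s ^ 8 - 1) * (s ^ 10 - 1) * (s ^ 12 - 1) *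
      (s ^ 14 - 1) * (s ^ 18 - 1)) := Dvd.intro_left _ he
  obtain ⟨B, hB⟩ : ∃ B, B = (s - 1) * s ^ 7 - 11 := ⟨_, rfl⟩
  rw [← hB]
  have a1 := pow_mono2 hs 1
  rw [pow_one] at a1
  have a2 := pow_mono2 hs 2
  have a3 := pow_mono2 hs 3
  have a4 := pow_mono2 hs 4
  have a5 := pow_mono2 hs 5
  have a6 := pow_mono2 hs 6
  have a7 := pow_mono2 hs 7
  have a8 := pow_mono2 hs 8
  have a9 := pow_mono2 hs 9
  have a10 := pow_mono2 hs 10
  have a11 := pow_mono2 hs 11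
  norm_num at a1 a2 a3 a4 a5 a6 a7 a8 a9 a10 a11
  have hB1 : s ^ 6 + 2 ≤ B := by
    rw [hB]
    have : 1 * s ^ 7 ≤ (s - 1) * s ^ 7 := Nat.mul_le_mul_right _ (by omega)
    omega
  have hB2 : s ^ 12 ≤ B ^ 2 := by
    calc s ^ 12 = (s ^ 6) ^ 2 := by ring
      _ ≤ B ^ 2 := Nat.pow_le_pow_left (by omega) 2
  refine few_of (L := [s ^ 9 - 1, s ^ 9 + 1, s ^ 7 - 1, s ^ 7 + 1])
    (S := [s, s ^ 2 - 1, s ^ 6 - 1, s ^ 6 + 1, s ^ 4 - 1, s ^ 4 + 1, s ^ 5 - 1, s ^ 5 + 1])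
    (by simp) ?_ (by omega) hf0 (by omega) hc ?_ ?_
  · intro x hx
    simp only [List.mem_cons, List.not_mem_nil, or_false] at hx
    rcases hx with rfl | rfl | rfl | rfl <;> omega
  · intro x hx
    simp only [List.mem_cons, List.not_mem_nil, or_false] at hx
    rcases hx with rfl | rfl | rfl | rfl | rfl | rfl | rfl | rfl <;> omega
  · intro t ht h
    rcases ht.dvd_mul.1 h with h1 | h1
    · exact inS (pow_pr ht h1) (by simp)
    rcases ht.dvd_mul.1 h1 with h1 | h18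
    swap
    · rcases sp ht (k := 9) h18 with h5 | h5 <;> exact inL h5 (by simp)
    rcases ht.dvd_mul.1 h1 with h1 | h14
    swap
    · rcases sp ht (k := 7) h14 with h5 | h5 <;> exact inL h5 (by simp)
    rcases ht.dvd_mul.1 h1 with h1 | h12
    swap
    · rcases sp ht (k := 6) h12 with h5 | h5 <;> exact inS h5 (by simp)
    rcases ht.dvd_mul.1 h1 with h1 | h10
    swap
    · rcases sp ht (k := 5) h10 with h5 | h5 <;> exact inS h5 (by simp)
    rcases ht.dvd_mul.1 h1 with h1 | h8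
    swap
    · rcases sp ht (k := 4) h8 with h5 | h5 <;> exact inS h5 (by simp)
    rcases ht.dvd_mul.1 h1 with h1 | h6 <;> [exact inS h1 (by simp); exact inS h6 (by simp)]

theorem poly14 (hs : 2 ≤ s) : s ^ 7 + 1 = (s + 1) * (s ^ 6 - s ^ 5 + (s ^ 4 - s ^ 3) + (s ^ 2 - s) + 1) := by
  obtain ⟨v, rfl⟩ : ∃ v, s = v + 1 := ⟨s - 1, by omega⟩
  have h0 : (v + 1) ^ 2 - (v + 1) = v * (v + 1) := by
    apply Nat.sub_eq_of_eq_add; ring
  have h1 : (v + 1) ^ 4 - (v + 1) ^ 3 = v * (v + 1) ^ 3 := by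
    apply Nat.sub_eq_of_eq_add; ring
  have h2 : (v + 1) ^ 6 - (v + 1) ^ 5 = v * (v + 1) ^ 5 := by
    apply Nat.sub_eq_of_eq_add; ring
  rw [h0, h1, h2]
  ring

theorem poly20 (hs : 2 ≤ s) : s ^ 10 + 1 = (s ^ 2 + 1) * (s ^ 8 - s ^ 6 + (s ^ 4 - s ^ 2) + 1) := by
  obtain ⟨v, rfl⟩ : ∃ v, s = v + 1 := ⟨s - 1, by omega⟩
  have h1 : (v + 1) ^ 4 - (v + 1) ^ 2 = v * (v + 2) * (v + 1) ^ 2 := by
    apply Nat.sub_eq_of_eq_add; ring
  have h2 : (v + 1) ^ 8 - (v + 1) ^ 6 = v * (v + 2) * (v + 1) ^ 6 := by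
    apply Nat.sub_eq_of_eq_add; ring
  rw [h1, h2]
  ring

theorem poly15 (hs : 2 ≤ s) : (s ^ 5) ^ 2 + s ^ 5 + 1 =
    (s ^ 2 + s + 1) * (s ^ 8 - s ^ 7 + (s ^ 5 - s ^ 4) + (s ^ 3 - s) + 1) := by
  obtain ⟨v, rfl⟩ : ∃ v, s = v + 1 := ⟨s - 1, by omega⟩
  have h1 : (v + 1) ^ 8 - (v + 1) ^ 7 = v * (v + 1) ^ 7 := by
    apply Nat.sub_eq_of_eq_add; ring
  have h2 : (v + 1) ^ 5 - (v + 1) ^ 4 = v * (v + 1) ^ 4 := by
    apply Nat.sub_eq_of_eq_add; ring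
  have h3 : (v + 1) ^ 3 - (v + 1) = v * (v + 2) * (v + 1) := by
    apply Nat.sub_eq_of_eq_add; ring
  rw [h1, h2, h3]
  ring

theorem poly30 (hs : 2 ≤ s) : ∃ X, X + (s ^ 5 + s ^ 4 + s ^ 3) = s ^ 8 + s ^ 7 + s + 1 ∧
    (s ^ 5) ^ 2 - s ^ 5 + 1 = (s ^ 2 - s + 1) * X := by
  have a1 := pow_mono2 hs 1
  rw [pow_one] at a1
  have a2 := pow_mono2 hs 2
  have a3 := pow_mono2 hs 3
  have a4 := pow_mono2 hs 4
  have a5 := pow_mono2 hs 5
  have a6 := pow_mono2 hs 6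
  have a7 := pow_mono2 hs 7
  norm_num at a1 a2 a3 a4 a5 a6 a7
  refine ⟨s ^ 8 + s ^ 7 + s + 1 - (s ^ 5 + s ^ 4 + s ^ 3), by omega, ?_⟩
  have b1 : s ≤ s ^ 2 := by omega
  have b2 : s ^ 5 ≤ (s ^ 5) ^ 2 := Nat.le_self_pow (by norm_num) _
  have b3 : s ^ 5 + s ^ 4 + s ^ 3 ≤ s ^ 8 + s ^ 7 + s + 1 := by omega
  zify [b1, b2, b3]
  ring

theorem few_e8_aux (hs : 2 ≤ s) (he : den (.e8 s) * c = num (.e8 s)) (hf : s = p ^ f) :
    FewB (lsb (.e8 s) - 11) f c := by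
  have hl2 : lsb (.e8 s) = (s - 1) * s ^ 7 := rfl
  rw [hl2]
  obtain ⟨hf0, hfs⟩ := fpos (by omega) hf
  have hc : c ∣ s ^ 120 * ((s ^ 2 - 1) * (s ^ 8 - 1) * (s ^ 12 - 1) * (s ^ 14 - 1) * (s ^ 18 - 1) *
      (s ^ 20 - 1) * (s ^ 24 - 1) * (s ^ 30 - 1)) := Dvd.intro_left _ he
  obtain ⟨B, hB⟩ : ∃ B, B = (s - 1) * s ^ 7 - 11 := ⟨_, rfl⟩
  rw [← hB]
  have a1 := pow_mono2 hs 1
  rw [pow_one] at a1
  have a2 := pow_mono2 hs 2
  have a3 := pow_mono2 hs 3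
  have a4 := pow_mono2 hs 4
  have a5 := pow_mono2 hs 5
  have a6 := pow_mono2 hs 6
  have a7 := pow_mono2 hs 7
  have a8 := pow_mono2 hs 8
  have a9 := pow_mono2 hs 9
  have a10 := pow_mono2 hs 10
  have a11 := pow_mono2 hs 11
  norm_num at a1 a2 a3 a4 a5 a6 a7 a8 a9 a10 a11
  have hB1 : s ^ 6 + 32 ≤ B ∧ s ^ 6 + s ^ 5 ≤ B := by
    rw [hB]
    have : 1 * s ^ 7 ≤ (s - 1) * s ^ 7 := Nat.mul_le_mul_right _ (by omega)
    omega
  have hB2 : s ^ 12 ≤ B ^ 2 := by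
    calc s ^ 12 = (s ^ 6) ^ 2 := by ring
      _ ≤ B ^ 2 := Nat.pow_le_pow_left (by omega) 2
  obtain ⟨X, hX, hX2⟩ := poly30 hs
  have p14 := poly14 hs
  have p15 := poly15 hs
  have p20 := poly20 hs
  obtain ⟨Y, hY⟩ : ∃ Y, Y = s ^ 6 - s ^ 5 + (s ^ 4 - s ^ 3) + (s ^ 2 - s) + 1 := ⟨_, rfl⟩
  obtain ⟨Z, hZ⟩ : ∃ Z, Z = s ^ 8 - s ^ 6 + (s ^ 4 - s ^ 2) + 1 := ⟨_, rfl⟩
  obtain ⟨W, hW⟩ : ∃ W, W = s ^ 8 - s ^ 7 + (s ^ 5 - s ^ 4) + (s ^ 3 - s) + 1 := ⟨_, rfl⟩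
  rw [← hY] at p14
  rw [← hZ] at p20
  rw [← hW] at p15
  refine few_of (L := [W, X, (s ^ 4) ^ 2 - s ^ 4 + 1, Z, s ^ 7 - 1])
    (S := [s, s ^ 2 - 1, s ^ 4 - 1, s ^ 4 + 1, s ^ 6 - 1, s ^ 6 + 1, s + 1, Y, s ^ 3 - 1, (s ^ 3) ^ 2 + s ^ 3 + 1,
      s ^ 3 + 1, (s ^ 3) ^ 2 - s ^ 3 + 1, s ^ 5 - 1, s ^ 5 + 1, s ^ 2 + 1, s ^ 2 + s + 1, s ^ 2 - s + 1])
    (by simp) ?_ (by omega) hf0 (by omega) hc ?_ ?_
  · rw [show (s ^ 4) ^ 2 = s ^ 8 by ring]
    intro x hx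
    simp only [List.mem_cons, List.not_mem_nil, or_false] at hx
    rcases hx with rfl | rfl | rfl | rfl | rfl <;> omega
  · rw [show (s ^ 3) ^ 2 = s ^ 6 by ring]
    intro x hx
    simp only [List.mem_cons, List.not_mem_nil, or_false] at hx
    rcases hx with rfl | rfl | rfl | rfl | rfl | rfl | rfl | rfl | rfl | rfl | rfl | rfl | rfl | rfl | rfl |
      rfl | rfl <;> omega
  · clear a1 a2 a3 a4 a5 a6 a7 a8 a9 a10 a11 hB1 hB2 hB hX hY hZ hW
    intro t ht h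
    rcases ht.dvd_mul.1 h with h1 | h1
    · exact inS (pow_pr ht h1) (by simp)
    rcases ht.dvd_mul.1 h1 with h1 | h30
    swap
    · rcases sp ht (k := 15) h30 with h5 | h5
      · rw [show s ^ 15 = (s ^ 5) ^ 3 by ring] at h5
        rcases c3 ht h5 with h6 | h6
        · exact inS h6 (by simp)
        · rw [p15] at h6
          rcases ht.dvd_mul.1 h6 with h7 | h7
          · exact inS h7 (by simp)
          · exact inL h7 (by simp)
      · rw [show s ^ 15 = (s ^ 5) ^ 3 by ring] at h5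
        rcases c3' ht h5 with h6 | h6
        · exact inS h6 (by simp)
        · rw [hX2] at h6
          rcases ht.dvd_mul.1 h6 with h7 | h7
          · exact inS h7 (by simp)
          · exact inL h7 (by simp)
    rcases ht.dvd_mul.1 h1 with h1 | h24
    swap
    · rcases sp ht (k := 12) h24 with h5 | h5
      · rcases sp ht (k := 6) h5 with h6 | h6 <;> exact inS h6 (by simp)
      · rw [show s ^ 12 = (s ^ 4) ^ 3 by ring] at h5
        rcases c3' ht h5 with h6 | h6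
        · exact inS h6 (by simp)
        · exact inL h6 (by simp)
    rcases ht.dvd_mul.1 h1 with h1 | h20
    swap
    · rcases sp ht (k := 10) h20 with h5 | h5
      · rcases sp ht (k := 5) h5 with h6 | h6 <;> exact inS h6 (by simp)
      · rw [p20] at h5
        rcases ht.dvd_mul.1 h5 with h6 | h6
        · exact inS h6 (by simp)
        · exact inL h6 (by simp)
    rcases ht.dvd_mul.1 h1 with h1 | h18
    swap
    · rcases sp ht (k := 9) h18 with h5 | h5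
      · rw [show s ^ 9 = (s ^ 3) ^ 3 by ring] at h5
        rcases c3 ht h5 with h6 | h6 <;> exact inS h6 (by simp)
      · rw [show s ^ 9 = (s ^ 3) ^ 3 by ring] at h5
        rcases c3' ht h5 with h6 | h6 <;> exact inS h6 (by simp)
    rcases ht.dvd_mul.1 h1 with h1 | h14
    swap
    · rcases sp ht (k := 7) h14 with h5 | h5
      · exact inL h5 (by simp)
      · rw [p14] at h5
        rcases ht.dvd_mul.1 h5 with h6 | h6 <;> exact inS h6 (by simp)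
    rcases ht.dvd_mul.1 h1 with h1 | h12
    swap
    · rcases sp ht (k := 6) h12 with h5 | h5 <;> exact inS h5 (by simp)
    rcases ht.dvd_mul.1 h1 with h1 | h8
    swap
    · rcases sp ht (k := 4) h8 with h5 | h5 <;> exact inS h5 (by simp)
    exact inS h1 (by simp)

end Cfsg.Agent.H264.FKS.FewExc

namespace Cfsg.Agent.H264.FKS

open Cfsg.Agent.OrdDiv Cfsg.Agent.H436 Cfsg.Agent.H278.El.CrossNum

variable {s p f c : ℕ}

theorem few_g2 (he : den (.g2 s) * c = num (.g2 s)) (hf : fld (.g2 s) = p ^ f)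
    (h37 : 37 ≤ H927.SgX.lsb (.g2 s)) : Few (H927.SgX.lsb (.g2 s)) (6 * f * c) :=
  FewExc.few_g2_aux he hf h37

theorem few_f4 (hg : Cond (.f4 s)) (he : den (.f4 s) * c = num (.f4 s)) (hf : fld (.f4 s) = p ^ f)
    (h37 : 37 ≤ H927.SgX.lsb (.f4 s)) : Few (H927.SgX.lsb (.f4 s)) (6 * f * c) :=
  FewExc.few_f4_aux (IsPrimePow.two_le hg) he hf h37

theorem few_td4 (he : den (.td4 s) * c = num (.td4 s)) (hf : fld (.td4 s) = p ^ f)
    (h37 : 37 ≤ H927.SgX.lsb (.td4 s)) : Few (H927.SgX.lsb (.td4 s)) (6 * f * c) :=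
  FewExc.few_td4_aux he hf h37

theorem few_e6 (hg : Cond (.e6 s)) (he : den (.e6 s) * c = num (.e6 s)) (hf : fld (.e6 s) = p ^ f) :
    Few (H927.SgX.lsb (.e6 s)) (6 * f * c) :=
  FewExc.few_e6_aux (IsPrimePow.two_le hg) he hf

theorem few_te6 (hg : Cond (.te6 s)) (he : den (.te6 s) * c = num (.te6 s)) (hf : fld (.te6 s) = p ^ f)
    (h37 : 37 ≤ H927.SgX.lsb (.te6 s)) : Few (H927.SgX.lsb (.te6 s)) (6 * f * c) :=
  FewExc.few_te6_aux (IsPrimePow.two_le hg) he hf h37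

theorem few_e7 (hg : Cond (.e7 s)) (he : den (.e7 s) * c = num (.e7 s)) (hf : fld (.e7 s) = p ^ f) :
    Few (H927.SgX.lsb (.e7 s)) (6 * f * c) :=
  FewExc.few_e7_aux (IsPrimePow.two_le hg) he hf

theorem few_e8 (hg : Cond (.e8 s)) (he : den (.e8 s) * c = num (.e8 s)) (hf : fld (.e8 s) = p ^ f) :
    Few (H927.SgX.lsb (.e8 s)) (6 * f * c) :=
  FewExc.few_e8_aux (IsPrimePow.two_le hg) he hf

/-- the exceptional names treated here -/
def IsExcN : Grp → Prop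
  | .g2 _ => True
  | .f4 _ => True
  | .e6 _ => True
  | .e7 _ => True
  | .e8 _ => True
  | .te6 _ => True
  | .td4 _ => True
  | _ => False

/-- **all exceptional names (untwisted, `²E₆`, `³D₄`)** -/
theorem few_exc {g : Grp} (hx : IsExcN g) (hg : Cond g) (he : den g * c = num g) (hf : fld g = p ^ f)
    (h37 : 37 ≤ H927.SgX.lsb g) : Few (H927.SgX.lsb g) (6 * f * c) := by
  cases g with
  | g2 s => exact few_g2 he hf h37
  | f4 s => exact few_f4 hg he hf h37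
  | e6 s => exact few_e6 hg he hf
  | e7 s => exact few_e7 hg he hf
  | e8 s => exact few_e8 hg he hf
  | te6 s => exact few_te6 hg he hf h37
  | td4 s => exact few_td4 he hf h37
  | _ => exact hx.elim

end Cfsg.Agent.H264.FKS
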